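import Groth.Agent.FontRam.PartA

/-!
# The ramification bound
-/

set_option autoImplicit false
set_option linter.style.haveILetI false
set_option linter.unusedSectionVars false
set_option linter.overlappingInstances false

open IsLocalRing Polynomial

namespace Groth.Agent.FontRam

universe u

variable (O : Type u) [CommRing O] [IsDomain O] [IsDiscreteValuationRing O]
  [IsAdicComplete (maximalIdeal O) O] [CharZero O]
  {Ω : Type u} [Field Ω] [Algebra O Ω] [FaithfulSMul O Ω]
  [Algebra (FractionRing O) Ω] [IsScalarTower O (FractionRing O) Ω] [Algebra.IsAlgebraic (FractionRing O) Ω]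
  [Normal (FractionRing O) Ω]
  (L : IntermediateField (FractionRing O) Ω) [FiniteDimensional (FractionRing O) L]
  [Normal (FractionRing O) L]

open scoped Classical in
/-- `v` of the different: `∑_{σ ≠ 1} v (x - σ x)`. -/
noncomputable def dSum (x : integralClosure O L) : ℚ :=
  ∑ τ ∈ (Finset.univ : Finset (L ≃ₐ[FractionRing O] L)).erase 1, v O (incl O L x - incl O L (autInt O L τ x))

theorem sub_ne_zero_of_ne {x : integralClosure O L}
    (hx : Algebra.adjoin O ({x} : Set (integralClosure O L)) = ⊤) {τ : L ≃ₐ[FractionRing O] L} (hτ : τ ≠ 1) :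
    incl O L x - incl O L (autInt O L τ x) ≠ 0 := by
  intro h
  refine hτ (AlgEquiv.coe_toAlgHom_injective (AlgHom.ext_of_adjoin_eq_top (adjoin_field_eq_top O L hx) ?_))
  rintro y rfl
  exact (Subtype.ext (sub_eq_zero.1 h)).symm

/-- The different is generated by an element of valuation `dSum`. -/
theorem exists_different_exponent [Module.IsTorsionFree O (integralClosure O L)]
    (P : Ideal (integralClosure O L)) [P.IsMaximal] {x : integralClosure O L}
    (hx : Algebra.adjoin O ({x} : Set (integralClosure O L)) = ⊤) :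
    ∃ d : ℕ, differentIdeal O (integralClosure O L) = P ^ d ∧ (d : ℚ) = P.ramificationIdx O * dSum O L x := by
  classical
  set e : ℚ := (P.ramificationIdx O : ℚ) with hedef
  have he : 0 < e := ram_pos O L P
  set a := aeval x (derivative (minpoly O x)) with ha
  have hprod : incl O L a = ∏ τ ∈ (Finset.univ : Finset (L ≃ₐ[FractionRing O] L)).erase 1,
      (incl O L x - incl O L (autInt O L τ x)) := by
    rw [ha, aeval_derivative_eq_prod O L hx, ← IntermediateField.coe_val, map_prod]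
    exact Finset.prod_congr rfl fun τ _ => map_sub L.val _ _
  have hne : ∀ τ ∈ (Finset.univ : Finset (L ≃ₐ[FractionRing O] L)).erase 1,
      incl O L x - incl O L (autInt O L τ x) ≠ 0 := fun τ hτ => sub_ne_zero_of_ne O L hx (Finset.ne_of_mem_erase hτ)
  have ha0 : incl O L a ≠ 0 := hprod ▸ Finset.prod_ne_zero_iff.2 hne
  have hva : v O (incl O L a) = dSum O L x := by rw [hprod, v_prod O _ _ hne]; rfl
  obtain ⟨k, hk⟩ := exists_v_eq O L P (z := incl O L a) (a : L).2 ha0
  have hk0 : 0 ≤ k := by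
    have := (isIntegral_iff O ha0).1 (isIntegral_incl O L a)
    rw [hk, le_div_iff₀ he, zero_mul] at this
    exact_mod_cast this
  obtain ⟨d, rfl⟩ := Int.eq_ofNat_of_zero_le hk0
  rw [Int.cast_natCast] at hk
  refine ⟨d, ?_, ?_⟩
  · rw [differentIdeal_eq_span O L hx, ← ha]
    refine le_antisymm ((Ideal.span_singleton_le_iff_mem _).2 ?_) fun z hz => ?_
    · rw [mem_pow_iff]
      exact Or.inr hk.ge
    · rw [mem_pow_iff, ← hk] at hz
      rw [Ideal.mem_span_singleton]
      have h1 := div_mem_G O ha0 hz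
      rw [sub_self] at h1
      obtain ⟨w, hw⟩ := exists_incl_eq O (E := L) (z := incl O L z / incl O L a)
        (div_mem (z : L).2 (a : L).2) ((mem_G_zero_iff O).1 h1)
      exact ⟨w, incl_injective O L (by rw [map_mul, hw, mul_div_cancel₀ _ ha0])⟩
  · rw [← hva, hk, ← hedef, mul_div_cancel₀ _ he.ne']

theorem autInt_mul (σ τ : L ≃ₐ[FractionRing O] L) (z : integralClosure O L) :
    autInt O L (σ * τ) z = autInt O L σ (autInt O L τ z) := Subtype.ext rfl

theorem pow_sub_mem_G (σ : L ≃ₐ[FractionRing O] L) (z : integralClosure O L) {c : ℚ}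
    (h : incl O L (autInt O L σ z) - incl O L z ∈ G O c) :
    ∀ n : ℕ, incl O L (autInt O L (σ ^ n) z) - incl O L z ∈ G O c
  | 0 => by
    rw [pow_zero, show autInt O L 1 z = z from Subtype.ext rfl, sub_self]
    exact zero_mem _
  | n + 1 => by
    have h1 := aut_mem_G O L σ
      (x := ((autInt O L (σ ^ n) z : integralClosure O L) : L) - (z : L)) (pow_sub_mem_G σ z h n)
    rw [map_sub] at h1
    have h2 := add_mem (show incl O L (autInt O L σ (autInt O L (σ ^ n) z)) - incl O L (autInt O L σ z) ∈ G O c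
      from h1) h
    rw [sub_add_sub_cancel] at h2
    rwa [pow_succ', autInt_mul]

/-- No wild element: an element of order `q ≠ p` has `I ≤ 1`. -/
theorem eq_of_prime_order (p : ℕ) [Fact p.Prime] [CharP (ResidueField O) p] (θ π : integralClosure O L)
    (hx : Algebra.adjoin O ({θ + π} : Set (integralClosure O L)) = ⊤) {e : ℕ} (he : 0 < e)
    (hπ : v O (incl O L π) = 1 / (e : ℚ)) (σ : L ≃ₐ[FractionRing O] L) {q : ℕ} (hq : q.Prime)
    (hord : orderOf σ = q) (hθ : autInt O L σ θ = θ) {I : ℕ} (hI : 2 ≤ I)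
    (hne : incl O L (autInt O L σ π) - incl O L π ≠ 0)
    (hv : v O (incl O L (autInt O L σ π) - incl O L π) = I / (e : ℚ)) : q = p := by
  by_contra hqp
  have heQ : (0 : ℚ) < e := by exact_mod_cast he
  set c : ℚ := (I : ℚ) / e
  set η : L := σ (π : L) - (π : L) with hη
  have hηΩ : ((η : L) : Ω) = incl O L (autInt O L σ π) - incl O L π := rfl
  have hπ0 : incl O L π ≠ 0 := fun h => by
    rw [h, v_zero] at hπ
    exact (one_div_pos.2 heQ).ne hπ
  have hc2 : c < 2 * c - 1 / e := by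
    rw [show 2 * c - 1 / (e : ℚ) = c + ((I : ℚ) - 1) / e by simp only [c]; ring]
    have : (2 : ℚ) ≤ I := by exact_mod_cast hI
    have : (0 : ℚ) < ((I : ℚ) - 1) / e := div_pos (by linarith) heQ
    linarith
  have hσx : incl O L (autInt O L σ (θ + π)) - incl O L (θ + π) ∈ G O c := by
    rw [map_add (autInt O L σ), map_add, map_add, hθ, add_sub_add_left_eq_sub]
    exact Or.inr hv.ge
  -- `σ η - η` is small
  have hση : ∀ i : ℕ, (((σ ^ i) η - η : L) : Ω) ∈ G O (2 * c - 1 / e) := by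
    have hpow : ∀ k : ℕ, incl O L (autInt O L σ π) ^ k - incl O L π ^ k ∈ G O (c + ((k : ℚ) - 1) / e) := by
      intro k
      rcases k with _ | k
      · simp [zero_mem]
      rw [← geom_sum₂_mul, mul_comm]
      refine mul_mem_G O (Or.inr hv.ge) ?_
      push_cast
      rw [add_sub_cancel_right]
      refine sum_mem fun j hj => ?_
      rw [Finset.mem_range] at hj
      have h1 : incl O L (autInt O L σ π) ∈ G O (1 / (e : ℚ)) := by
        rw [incl_autInt]; exact aut_mem_G O L σ (x := (π : L)) (Or.inr hπ.ge)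
      have h2 := mul_mem_G O (pow_mem_G O h1 j)
        (pow_mem_G O (Or.inr hπ.ge : incl O L π ∈ G O (1 / (e : ℚ))) (k + 1 - 1 - j))
      rwa [← add_mul, ← Nat.cast_add, show j + (k + 1 - 1 - j) = k by omega, mul_one_div] at h2
    have hηi : IsIntegral O ((η : L) : Ω) := hηΩ ▸ (isIntegral_incl O L _).sub (isIntegral_incl O L _)
    obtain ⟨ηB, hηB⟩ := exists_incl_eq O (E := L) η.2 hηi
    obtain ⟨w, hw⟩ := exists_incl_eq O (E := L) (z := incl O L ηB / incl O L π ^ I)
      (div_mem (ηB : L).2 (pow_mem (π : L).2 I)) ((mem_G_zero_iff O).1 (by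
        have := div_mem_G O (pow_ne_zero I hπ0) (Or.inr (by rw [hηB, hηΩ, hv]) : incl O L ηB ∈ G O c)
        rwa [v_pow O hπ0, hπ, show c - (I : ℚ) * (1 / e) = 0 by simp only [c]; ring] at this))
    have e0 : incl O L ηB = incl O L (π ^ I * w) := by
      rw [map_mul, map_pow, hw, mul_div_cancel₀ _ (pow_ne_zero I hπ0)]
    have h1 : incl O L (autInt O L σ ηB) - incl O L ηB ∈ G O (2 * c - 1 / e) := by
      have e1 : incl O L (autInt O L σ ηB) - incl O L ηB =
          (incl O L (autInt O L σ π) ^ I - incl O L π ^ I) * incl O L (autInt O L σ w) +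
            incl O L π ^ I * (incl O L (autInt O L σ w) - incl O L w) := by
        rw [incl_injective O L e0]
        simp only [map_mul, map_pow]
        ring
      rw [e1]
      refine add_mem ?_ ?_
      · have := mul_mem_G O (hpow I) (incl_mem_G_zero O L (autInt O L σ w))
        refine G_anti O (le_of_eq ?_) this
        simp only [c]; ring
      · have := mul_mem_G O (pow_mem_G O (Or.inr hπ.ge : incl O L π ∈ G O (1 / (e : ℚ))) I)
          (sub_mem_G_of_adjoin O L hx σ hσx w)
        refine G_anti O ?_ this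
        have : (0 : ℚ) ≤ 1 / e := (one_div_pos.2 heQ).le
        simp only [c] at *
        rw [mul_one_div]
        linarith
    intro i
    have h2 := pow_sub_mem_G O L σ ηB h1 i
    rw [incl_autInt, hηB, show ((ηB : L)) = η from Subtype.ext hηB] at h2
    exact h2
  have hsum : ∀ n : ℕ, (((σ ^ n) (π : L) - (π : L) - (n : L) * η : L) : Ω) ∈ G O (2 * c - 1 / e) := by
    intro n
    induction n with
    | zero => simp [zero_mem]
    | succ n ih =>
      have e1 : (σ ^ (n + 1)) (π : L) - (π : L) - ((n + 1 : ℕ) : L) * η =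
          ((σ ^ n) (π : L) - (π : L) - (n : L) * η) + ((σ ^ n) η - η) := by
        rw [pow_succ, AlgEquiv.mul_apply, show (σ ^ n) η = (σ ^ n) (σ (π : L)) - (σ ^ n) (π : L) from map_sub _ _ _]
        push_cast
        ring
      rw [e1]
      exact add_mem ih (hση n)
  have hq0 := hsum q
  rw [show σ ^ q = 1 from hord ▸ pow_orderOf_eq_one σ] at hq0
  have hqu : IsU O ((q : ℕ) : Ω) := by
    have hu : IsUnit (q : O) := by
      by_contra h
      have h' : residue O (q : O) = 0 := (residue_eq_zero_iff _).2 h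
      rw [map_natCast, CharP.cast_eq_zero_iff (ResidueField O) p,
        Nat.prime_dvd_prime_iff_eq Fact.out hq] at h'
      exact hqp h'.symm
    haveI : Algebra.IsIntegral O O := Algebra.IsIntegral.of_finite O O
    simpa using isU_of_isUnit O (Algebra.ofId O Ω) hu
  have h3 : (q : Ω) * ((η : L) : Ω) ∈ G O (2 * c - 1 / e) := by
    rw [AlgEquiv.one_apply, sub_self, zero_sub] at hq0
    have := neg_mem hq0
    push_cast at this
    rwa [neg_neg] at this
  have hη0 : ((η : L) : Ω) ≠ 0 := hηΩ ▸ hne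
  have h4 := v_le_of_mem O (mul_ne_zero hqu.1 hη0) h3
  rw [v_mul O hqu.1 hη0, v_of_isU O hqu, zero_add, hηΩ, hv] at h4
  exact absurd h4 (not_le.2 hc2)

/-- The ramification bound from Fontaine's property. -/
theorem bound_of_property [IsAlgClosed Ω] [Module.IsTorsionFree O (integralClosure O L)]
    [PerfectField (ResidueField O)] (p : ℕ) [Fact p.Prime] [CharP (ResidueField O) p] {T : ℚ} (hT : 1 ≤ T)
    (hP : FontP O L T) (P : Ideal (integralClosure O L)) [P.IsMaximal] :
    ∃ d : ℕ, differentIdeal O (integralClosure O L) = P ^ d ∧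
      ∀ σ : L ≃ₐ[FractionRing O] L, σ ≠ 1 → ∀ j : ℕ,
        (∀ z, incl O L (autInt O L σ z) - incl O L z ∈ G O ((j : ℚ) / P.ramificationIdx O)) →
          (j : ℚ) + d ≤ (P.ramificationIdx O : ℚ) * T := by
  classical
  obtain ⟨θ, π, hπ, hθ, hx⟩ := exists_generator O L P
  set e : ℕ := P.ramificationIdx O with hedef
  have heQ : (0 : ℚ) < e := ram_pos O L P
  have heN : 0 < e := by exact_mod_cast heQ
  obtain ⟨d, hd, hdval⟩ := exists_different_exponent O L P hx
  set x := θ + π with hxdef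
  refine ⟨d, hd, fun σ₂ hσ₂ j hj => ?_⟩
  let ι : (L ≃ₐ[FractionRing O] L) → ℚ := fun τ => v O (incl O L (autInt O L τ x) - incl O L x)
  have hιe : ∀ τ, v O (incl O L x - incl O L (autInt O L τ x)) = ι τ := fun τ => by
    rw [← neg_sub, v_neg]
  have hne : ∀ τ, τ ≠ 1 → incl O L (autInt O L τ x) - incl O L x ≠ 0 := fun τ hτ => by
    rw [← neg_sub]
    exact neg_ne_zero.2 (sub_ne_zero_of_ne O L hx hτ)
  obtain ⟨σ₁, hσ₁, hmax⟩ := Finset.exists_max_image ((Finset.univ : Finset (L ≃ₐ[FractionRing O] L)).erase 1) ι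
    ⟨σ₂, Finset.mem_erase.2 ⟨hσ₂, Finset.mem_univ _⟩⟩
  have hσ₁ne : σ₁ ≠ 1 := Finset.ne_of_mem_erase hσ₁
  have hmax' : ∀ τ, τ ≠ 1 → ι τ ≤ ι σ₁ := fun τ hτ => hmax τ (Finset.mem_erase.2 ⟨hτ, Finset.mem_univ _⟩)
  have hint : ∀ τ, τ ≠ 1 → 0 ≤ ι τ := fun τ hτ =>
    (isIntegral_iff O (hne τ hτ)).1 ((isIntegral_incl O L _).sub (isIntegral_incl O L _))
  suffices hM : ι σ₁ + dSum O L x ≤ T by
    have h1 : (j : ℚ) / e ≤ ι σ₂ := v_le_of_mem O (hne σ₂ hσ₂) (hj x)
    have h3 : (j : ℚ) / e + dSum O L x ≤ T := by linarith [hmax' σ₂ hσ₂]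
    have h4 : ((j : ℚ) / e + dSum O L x) * e ≤ T * e := mul_le_mul_of_nonneg_right h3 heQ.le
    rw [add_mul, div_mul_cancel₀ _ heQ.ne'] at h4
    rw [hdval]
    linarith
  by_contra hbad
  rw [not_le] at hbad
  set M := ι σ₁ + dSum O L x with hMdef
  have hdS : dSum O L x = ∑ τ ∈ (Finset.univ : Finset (L ≃ₐ[FractionRing O] L)).erase 1, ι τ :=
    Finset.sum_congr rfl fun τ _ => hιe τ
  obtain ⟨I, hI⟩ : ∃ I : ℕ, ι σ₁ = I / (e : ℚ) := by
    obtain ⟨k, hk⟩ := exists_v_eq O L P (z := incl O L (autInt O L σ₁ x) - incl O L x)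
      (sub_mem (autInt O L σ₁ x : L).2 (x : L).2) (hne σ₁ hσ₁ne)
    have hk0 : 0 ≤ k := by
      have := hint σ₁ hσ₁ne
      simp only [ι, hk] at this
      rw [le_div_iff₀ heQ, zero_mul] at this
      exact_mod_cast this
    obtain ⟨I, rfl⟩ := Int.eq_ofNat_of_zero_le hk0
    exact ⟨I, hk.trans (by rw [Int.cast_natCast])⟩
  rcases Nat.eq_zero_or_pos I with rfl | hIpos
  · rw [Nat.cast_zero, zero_div] at hI
    have : dSum O L x = 0 := by
      rw [hdS]
      exact Finset.sum_eq_zero fun τ hτ =>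
        le_antisymm (hI ▸ hmax τ hτ) (hint τ (Finset.ne_of_mem_erase hτ))
    linarith
  -- a power of prime order
  have hord1 : orderOf σ₁ ≠ 1 := fun h => hσ₁ne (orderOf_eq_one_iff.1 h)
  obtain ⟨q, hq, hqd⟩ := Nat.exists_prime_and_dvd hord1
  set σ₀ := σ₁ ^ (orderOf σ₁ / q) with hσ₀
  have hord₀ : orderOf σ₀ = q := orderOf_pow_orderOf_div (orderOf_pos σ₁).ne' hqd
  have hσ₀ne : σ₀ ≠ 1 := fun h => by
    rw [h, orderOf_one] at hord₀
    exact hq.ne_one hord₀.symm
  have hGI : incl O L (autInt O L σ₁ x) - incl O L x ∈ G O ((I : ℚ) / e) := Or.inr hI.ge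
  have hcyc : ∀ τ ∈ Subgroup.zpowers σ₀, τ ≠ 1 → incl O L (autInt O L τ x) - incl O L x ≠ 0 ∧
      ι τ = I / (e : ℚ) := by
    intro τ hτ hτ1
    obtain ⟨n, rfl⟩ := (Submonoid.mem_powers_iff _ _).1 (mem_powers_iff_mem_zpowers.2 hτ)
    refine ⟨hne _ hτ1, le_antisymm (hI ▸ hmax' _ hτ1) (v_le_of_mem O (hne _ hτ1) ?_)⟩
    rw [hσ₀, ← pow_mul]
    exact pow_sub_mem_G O L σ₁ x hGI _
  have hI1 : (1 : ℚ) / e ≤ (I : ℚ) / e :=
    div_le_div_of_nonneg_right (by exact_mod_cast hIpos) heQ.le
  obtain ⟨h0ne, h0v⟩ := hcyc σ₀ (Subgroup.mem_zpowers σ₀) hσ₀ne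
  have hθ₀ : autInt O L σ₀ θ = θ :=
    hθ σ₀ (G_anti O hI1 (sub_mem_G_of_adjoin O L hx σ₀ (Or.inr h0v.ge) θ))
  have hπ₀ : incl O L (autInt O L σ₀ π) - incl O L π = incl O L (autInt O L σ₀ x) - incl O L x := by
    rw [hxdef, map_add (autInt O L σ₀), map_add, map_add, hθ₀, add_sub_add_left_eq_sub]
  -- values of the minimal polynomial near `x`
  have hfac : ∀ (Y : Ω) (c : ℚ), Y - incl O L x ∈ G O c → ∀ w : ℚ, w ≤ c →
      (∀ τ, τ ≠ 1 → min c (ι τ) ≥ ι τ - (ι σ₁ - w)) → w ≤ ι σ₁ →
      aeval Y (minpoly O x) ∈ G O (M - (Fintype.card (L ≃ₐ[FractionRing O] L) : ℚ) * (ι σ₁ - w)) := by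
    intro Y c hY w hwc hw hwι
    rw [aeval_eq_prod O L hx Y]
    have h := prod_mem_G O (Finset.univ : Finset (L ≃ₐ[FractionRing O] L))
      (fun τ => Y - ((τ (x : L) : L) : Ω)) (fun τ => (if τ = 1 then ι σ₁ else ι τ) - (ι σ₁ - w)) fun τ _ => ?_
    · refine G_anti O (le_of_eq ?_) h
      rw [Finset.sum_sub_distrib, ← Finset.add_sum_erase _ _ (Finset.mem_univ (1 : L ≃ₐ[FractionRing O] L)),
        if_pos rfl, Finset.sum_congr rfl (fun τ hτ => if_neg (Finset.ne_of_mem_erase hτ)), ← hdS, Finset.sum_const,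
        Finset.card_univ, nsmul_eq_mul, hMdef]
    · split_ifs with hτ
      · subst hτ
        rw [sub_sub_cancel]
        exact G_anti O hwc hY
      · have h2 : incl O L x - incl O L (autInt O L τ x) ∈ G O (ι τ) := Or.inr (hιe τ).ge
        have h3 := add_mem (G_anti O (min_le_left c (ι τ)) hY) (G_anti O (min_le_right c (ι τ)) h2)
        rw [sub_add_sub_cancel] at h3
        exact G_anti O (hw τ hτ) h3
  rcases Nat.lt_or_ge I 2 with hI2 | hI2
  · -- `I = 1`
    obtain rfl : I = 1 := by omega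
    let E : IntermediateField (FractionRing O) Ω :=
      IntermediateField.lift (IntermediateField.fixedField (Subgroup.zpowers σ₀))
    have hEL : ∀ z ∈ E, z ∈ L := fun z hz => IntermediateField.lift_le _ hz
    haveI : FiniteDimensional (FractionRing O) E :=
      FiniteDimensional.of_injective (V₂ := L) (IntermediateField.inclusion (fun z hz => hEL z hz)).toLinearMap
        (IntermediateField.inclusion (fun z hz => hEL z hz)).injective
    have hmemE : incl O L θ ∈ E := by
      refine (IntermediateField.mem_lift (θ : L)).2 ?_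
      rintro ⟨τ, hτ⟩
      obtain ⟨n, rfl⟩ := (Submonoid.mem_powers_iff _ _).1 (mem_powers_iff_mem_zpowers.2 hτ)
      show (σ₀ ^ n) (θ : L) = (θ : L)
      induction n with
      | zero => rfl
      | succ n ih =>
        rw [pow_succ, AlgEquiv.mul_apply, show σ₀ (θ : L) = (θ : L) from congrArg Subtype.val hθ₀]
        exact ih (pow_mem (Subgroup.mem_zpowers σ₀) n)
    have hY := hfac (incl O L θ) (ι σ₁) (by
      rw [hI, Nat.cast_one, hxdef, map_add, sub_add_cancel_left]
      exact neg_mem (Or.inr hπ.ge)) (ι σ₁) le_rfl (fun τ hτ => by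
        rw [sub_self, sub_zero]
        exact le_min (hmax' τ hτ) le_rfl) le_rfl
    rw [sub_self, mul_zero, sub_zero] at hY
    have hle := le_of_aeval_mem O L hP hx E hmemE (isIntegral_incl O L θ) hbad hY
    have hxE : incl O L x ∈ E := hle (x : L).2
    have hfix := (IntermediateField.mem_lift (x : L)).1 hxE ⟨σ₀, Subgroup.mem_zpowers σ₀⟩
    refine h0ne (sub_eq_zero.2 ?_)
    rw [incl_autInt]
    exact congrArg Subtype.val hfix
  · -- `I ≥ 2`
    have hqp : q = p := eq_of_prime_order O L p θ π hx heN hπ σ₀ hq hord₀ hθ₀ hI2 (hπ₀ ▸ h0ne) (hπ₀ ▸ h0v)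
    rw [hqp] at hord₀
    refine wild_false O L p hP θ π hx heN hπ (fun z hz => exists_v_eq O L P z.2 hz) σ₀ hord₀ hθ₀ hI2
      (fun τ hτ hτ1 => hcyc τ hτ hτ1) hbad fun N hN yy hyy => ?_
    have hNQ : (0 : ℚ) < N := by exact_mod_cast hN
    have h1N : (0 : ℚ) ≤ 1 / ((N : ℚ) * e) := one_div_nonneg.2 (mul_pos hNQ heQ).le
    have ecw : ι σ₁ - ((I : ℚ) - 1 / N) / e = 1 / ((N : ℚ) * e) := by rw [hI]; field_simp; ring
    have := hfac (incl O L θ + yy) (((I : ℚ) - 1 / N) / e) (by
      rw [hxdef, map_add, add_sub_add_left_eq_sub]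
      exact hyy) (((I : ℚ) - 1 / N) / e) le_rfl (fun τ hτ => by
        rw [ecw]
        exact le_min (by linarith [hmax' τ hτ]) (by linarith)) (by linarith)
    rwa [ecw, mul_one_div] at this

end Groth.Agent.FontRam
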