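import Groth.Agent.FontRam.Val
import Mathlib

/-!
# The core of Fontaine's contradiction in a totally ramified extension of degree `p`
-/

set_option autoImplicit false
set_option linter.style.haveILetI false
set_option linter.unusedSectionVars false

open IsLocalRing Polynomial Finset

namespace Groth.Agent.FontRam

universe u

section Algebraic

variable {F ι : Type*} [Field F] [Fintype ι] [DecidableEq ι]

/-- Sum of values at the roots as a coefficient. -/
theorem sum_eval_eq_coeff (r : ι → F) (hr : Function.Injective r) {n : ℕ} (hn : Fintype.card ι = n + 1) (U : F[X]) :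
    ∑ k, U.eval (r k) =
      ((U * derivative (Lagrange.nodal univ r)) %ₘ Lagrange.nodal univ r).coeff n := by
  have hm : (Lagrange.nodal univ r).Monic := Lagrange.nodal_monic
  have hd : ((U * derivative (Lagrange.nodal univ r)) %ₘ Lagrange.nodal univ r).degree < (univ : Finset ι).card := by
    have := degree_modByMonic_lt (U * derivative (Lagrange.nodal univ r)) hm
    rwa [Lagrange.degree_nodal] at this
  have h := Lagrange.coeff_eq_sum hr.injOn hd
  rw [card_univ, hn, Nat.add_sub_cancel] at h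
  rw [h]
  refine sum_congr rfl fun k _ => ?_
  have h1 : ((U * derivative (Lagrange.nodal univ r)) %ₘ Lagrange.nodal univ r).eval (r k) =
      (U * derivative (Lagrange.nodal univ r)).eval (r k) := by
    have := aeval_modByMonic_eq_self_of_root (R := F) (S := F) (p := U * derivative (Lagrange.nodal univ r))
      (q := Lagrange.nodal univ r) (x := r k)
      (by simpa using Lagrange.eval_nodal_at_node (v := r) (mem_univ k))
    simpa using this
  rw [h1, eval_mul, Lagrange.eval_nodal_derivative_eval_node_eq (mem_univ k), Lagrange.eval_nodal,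
    mul_div_cancel_right₀]
  exact prod_ne_zero_iff.2 fun j hj => sub_ne_zero.2 fun he => (mem_erase.1 hj).1 (hr he).symm

/-- Two polynomials differing by a constant have the same small power sums of roots. -/
theorem sum_pow_eq (r y : ι → F) (hr : Function.Injective r) (hy : Function.Injective y) (β : F)
    (h : Lagrange.nodal univ y = Lagrange.nodal univ r - C β) {n : ℕ} (hn : Fintype.card ι = n + 1) {m : ℕ}
    (hm : m ≤ n) : ∑ k, y k ^ m = ∑ k, r k ^ m := by
  have e1 := sum_eval_eq_coeff r hr hn ((X : F[X]) ^ m)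
  have e2 := sum_eval_eq_coeff y hy hn ((X : F[X]) ^ m)
  simp only [eval_pow, eval_X] at e1 e2
  rw [e1, e2, h, derivative_sub, derivative_C, sub_zero]
  set f := Lagrange.nodal univ r with hf
  set P := (X : F[X]) ^ m * derivative f with hP
  have hfm : f.Monic := Lagrange.nodal_monic
  have hdf : f.natDegree = n + 1 := by rw [hf, Lagrange.natDegree_nodal, card_univ, hn]
  have hgm : (f - C β).Monic := hfm.sub_of_left (by
    rw [degree_eq_natDegree hfm.ne_zero, hdf]
    exact degree_C_le.trans_lt (by exact_mod_cast Nat.succ_pos n))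
  have hgd : (f - C β).degree = ((n + 1 : ℕ) : WithBot ℕ) := by
    rw [degree_sub_eq_left_of_degree_lt, degree_eq_natDegree hfm.ne_zero, hdf]
    rw [degree_eq_natDegree hfm.ne_zero, hdf]
    exact degree_C_le.trans_lt (by exact_mod_cast Nat.succ_pos n)
  have hq : (P /ₘ f).natDegree + 1 ≤ n ∨ P /ₘ f = 0 := by
    rcases eq_or_ne (P /ₘ f) 0 with h0 | h0
    · exact Or.inr h0
    left
    have h1 := natDegree_divByMonic P hfm
    have h2 : P.natDegree ≤ m + n := by
      refine natDegree_mul_le.trans ?_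
      rw [natDegree_X_pow]
      have := natDegree_derivative_le f
      omega
    have h3 : f.natDegree ≤ P.natDegree := by
      by_contra hlt
      refine h0 ((divByMonic_eq_zero_iff hfm).2 ?_)
      exact degree_lt_degree (not_le.1 hlt)
    omega
  have hlow : ∀ i, n ≤ i → (C β * (P /ₘ f)).coeff i = 0 := fun i hi => by
    rw [coeff_C_mul]
    rcases hq with hq | hq
    · rw [coeff_eq_zero_of_natDegree_lt (by omega), mul_zero]
    · rw [hq, coeff_zero, mul_zero]
  have hrem : (P %ₘ f + C β * (P /ₘ f)).degree < (f - C β).degree := by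
    rw [hgd, degree_lt_iff_coeff_zero]
    intro i hi
    rw [coeff_add, hlow i (Nat.le_of_succ_le hi), add_zero]
    refine coeff_eq_zero_of_degree_lt ((degree_modByMonic_lt P hfm).trans_le ?_)
    rw [degree_eq_natDegree hfm.ne_zero, hdf]
    exact_mod_cast hi
  have e3 := (div_modByMonic_unique (f := P) (q := P /ₘ f) (r := P %ₘ f + C β * (P /ₘ f)) hgm ⟨by
    linear_combination modByMonic_add_div P f, hrem⟩).2
  rw [e3, coeff_add, hlow n le_rfl, add_zero]

end Algebraic

variable (O : Type u) [CommRing O] [IsDomain O] [IsDiscreteValuationRing O]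
  [IsAdicComplete (maximalIdeal O) O] [CharZero O]
  {Ω : Type u} [Field Ω] [Algebra O Ω] [FaithfulSMul O Ω]
  [Algebra (FractionRing O) Ω] [IsScalarTower O (FractionRing O) Ω] [Algebra.IsAlgebraic (FractionRing O) Ω]

theorem coeff_prod_mem_G {ι : Type*} [DecidableEq ι] (s : Finset ι) (r : ι → Ω) {δ : ℚ}
    (hr : ∀ k ∈ s, r k ∈ G O δ) (i : ℕ) (hi : i ≤ s.card) :
    (∏ k ∈ s, (X - C (r k))).coeff i ∈ G O (((s.card : ℚ) - i) * δ) := by
  induction s using Finset.induction generalizing i with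
  | empty =>
    obtain rfl : i = 0 := by simpa using hi
    simpa using (mem_G_zero_iff O (Ω := Ω)).2 isIntegral_one
  | insert a s ha ih =>
    rw [Finset.card_insert_of_notMem ha] at hi ⊢
    rw [Finset.prod_insert ha, sub_mul (X : Polynomial Ω), coeff_sub, coeff_C_mul]
    have ih' := ih fun k hk => hr k (Finset.mem_insert_of_mem hk)
    refine sub_mem ?_ ?_
    · rcases i with _ | i
      · rw [coeff_X_mul_zero]; exact zero_mem _
      · rw [coeff_X_mul]
        have := ih' i (by omega)
        push_cast at this ⊢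
        rwa [add_sub_add_right_eq_sub]
    · by_cases his : i ≤ s.card
      · have := mul_mem_G O (hr a (Finset.mem_insert_self a s)) (ih' i his)
        push_cast
        rwa [show ((s.card : ℚ) + 1 - i) * δ = δ + ((s.card : ℚ) - i) * δ by ring]
      · rw [coeff_eq_zero_of_natDegree_lt, mul_zero]
        · exact zero_mem _
        · rw [natDegree_finsetProd_X_sub_C_eq_card]; omega

variable {T : Type*} [Field T] [Algebra T Ω] {p : ℕ} [Fact p.Prime]
  {N : ℕ} {δ : ℚ}

/-- Terms of a polynomial over `T` at a uniformizer cannot cancel. -/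
theorem term_mem (hT : ∀ z : T, z ≠ 0 → ∃ k : ℤ, v O (algebraMap T Ω z) = k * ((p : ℚ) / N) * δ)
    (hδ : δ ≠ 0) (hN : N ≠ 0) (hpN : ¬ p ∣ N) {r : Ω} (hr0 : r ≠ 0) (hr : v O r = δ)
    {P : T[X]} (hP : P.natDegree < p) {c : ℚ} (h : aeval r P ∈ G O c) :
    ∀ i < p, algebraMap T Ω (P.coeff i) * r ^ i ∈ G O c := by
  have hsum : ∑ i ∈ range p, algebraMap T Ω (P.coeff i) * r ^ i ∈ G O c := by
    rw [aeval_eq_sum_range' hP] at h
    simpa [Algebra.smul_def] using h
  refine fun i hi => mem_G_of_sum_mem O (range p) _ c ?_ hsum i (mem_range.2 hi)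
  intro i hi j hj hij hi0 hj0 he
  obtain ⟨k, hk⟩ := hT (P.coeff i) fun h0 => hi0 (by rw [h0, map_zero, zero_mul])
  obtain ⟨l, hl⟩ := hT (P.coeff j) fun h0 => hj0 (by rw [h0, map_zero, zero_mul])
  rw [v_mul O (left_ne_zero_of_mul hi0) (pow_ne_zero _ hr0), v_mul O (left_ne_zero_of_mul hj0) (pow_ne_zero _ hr0),
    v_pow O hr0, v_pow O hr0, hr, hk, hl] at he
  have hN' : (N : ℚ) ≠ 0 := by exact_mod_cast hN
  have e : ((k : ℚ) - l) * p = ((j : ℚ) - i) * N := by
    field_simp at he
    linarith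
  have e' : ((k - l) * p : ℤ) = ((j : ℤ) - i) * N := by exact_mod_cast e
  have hdvd : (p : ℤ) ∣ ((j : ℤ) - i) * N := ⟨k - l, by rw [← e', mul_comm]⟩
  rcases (Nat.prime_iff_prime_int.1 (Fact.out : p.Prime)).dvd_or_dvd hdvd with h1 | h1
  · rw [mem_range] at hi hj
    refine hij ?_
    have : ((j : ℤ) - i).natAbs < p := by omega
    have h2 := Int.eq_zero_of_dvd_of_natAbs_lt_natAbs h1 (by simpa using this)
    omega
  · exact hpN (by exact_mod_cast h1)

variable {ι : Type*} [Fintype ι] [DecidableEq ι]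

/-- A bound for sums over the roots. -/
theorem sum_aeval_mem (hT : ∀ z : T, z ≠ 0 → ∃ k : ℤ, v O (algebraMap T Ω z) = k * ((p : ℚ) / N) * δ)
    (hδ : δ ≠ 0) (hN : N ≠ 0) (hpN : ¬ p ∣ N) (hp : Fintype.card ι = p) {r : ι → Ω} (hinj : Function.Injective r)
    (k₀ : ι) (hr0 : r k₀ ≠ 0) (hr : v O (r k₀) = δ) {f₀ : T[X]} (hf : f₀.map (algebraMap T Ω) = Lagrange.nodal univ r)
    {D : ℚ} (hD : aeval (r k₀) (derivative f₀) ∈ G O D) (U : T[X]) {c : ℚ} (hU : aeval (r k₀) U ∈ G O c) :
    ∑ k, aeval (r k) U ∈ G O (c + D - ((p : ℚ) - 1) * δ) := by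
  obtain ⟨n, hn⟩ : ∃ n, p = n + 1 := ⟨p - 1, (Nat.succ_pred_eq_of_pos (Fact.out : p.Prime).pos).symm⟩
  have hfm : f₀.Monic := by
    rw [← monic_map_iff (f := algebraMap T Ω), hf]
    exact Lagrange.nodal_monic
  have hfd : f₀.natDegree = p := by
    rw [← natDegree_map (algebraMap T Ω), hf, Lagrange.natDegree_nodal, card_univ, hp]
  set B := (U * derivative f₀) %ₘ f₀
  have hBd : B.natDegree < p := by
    rw [← hfd]
    exact natDegree_modByMonic_lt _ hfm fun h => by
      rw [h, natDegree_one] at hfd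
      exact (Fact.out : p.Prime).ne_zero hfd.symm
  have hroot : aeval (r k₀) f₀ = 0 := by
    rw [aeval_def, ← eval_map, hf, Lagrange.eval_nodal_at_node (mem_univ k₀)]
  have hB : aeval (r k₀) B ∈ G O (c + D) := by
    rw [aeval_modByMonic_eq_self_of_root hroot, map_mul]
    exact mul_mem_G O hU hD
  have h := term_mem O hT hδ hN hpN hr0 hr hBd hB n (by omega)
  have h2 := div_mem_G O (pow_ne_zero n hr0) h
  rw [mul_div_cancel_right₀ _ (pow_ne_zero n hr0), v_pow O hr0, hr] at h2
  have e := sum_eval_eq_coeff r hinj (n := n) (by rw [hp, hn]) (U.map (algebraMap T Ω))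
  rw [← hf, derivative_map, ← Polynomial.map_mul, ← map_modByMonic _ hfm, coeff_map] at e
  simp only [eval_map, ← aeval_def] at e
  rw [e]
  convert h2 using 2
  subst hn
  push_cast
  ring

/-- The core contradiction. -/
theorem core_false [CharZero Ω] (hT : ∀ z : T, z ≠ 0 → ∃ k : ℤ, v O (algebraMap T Ω z) = k * ((p : ℚ) / N) * δ)
    (hδ : 0 < δ) (hN : 2 ≤ N) (hpN : ¬ p ∣ N) (hp : Fintype.card ι = p)
    (hunit : ∀ n : ℕ, n ≠ 0 → n < p → v O (n : Ω) = 0)
    {r : ι → Ω} {I : ℕ} (hI : 2 ≤ I) (hr0 : ∀ k, r k ≠ 0) (hr : ∀ k, v O (r k) = δ)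
    (hrd : ∀ k l, k ≠ l → r k - r l ≠ 0 ∧ v O (r k - r l) = I * δ)
    {f₀ : T[X]} (hf : f₀.map (algebraMap T Ω) = Lagrange.nodal univ r) (β : T)
    (Q : T[X]) (hQ : Q.natDegree < p)
    (hroot : ∀ k, aeval (aeval (r k) Q) f₀ = algebraMap T Ω β)
    (k₀ : ι) (hz0 : aeval (r k₀) Q - r k₀ ≠ 0)
    (hz : v O (aeval (r k₀) Q - r k₀) = ((I : ℚ) - 1 / N) * δ) : False := by
  obtain ⟨n, hn⟩ : ∃ n, p = n + 1 := ⟨p - 1, (Nat.succ_pred_eq_of_pos (Fact.out : p.Prime).pos).symm⟩
  have hp2 := (Fact.out : p.Prime).two_le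
  have hN0 : N ≠ 0 := by omega
  have hNQ : (2 : ℚ) ≤ N := by exact_mod_cast hN
  have hIQ : (2 : ℚ) ≤ I := by exact_mod_cast hI
  set s : ℚ := (I : ℚ) - 1 / N with hsdef
  have h1N : (1 : ℚ) / N ≤ 1 / 2 := one_div_le_one_div_of_le two_pos hNQ
  have hs1 : (1 : ℚ) < s := by rw [hsdef]; linarith
  have hinj : Function.Injective r := fun k l h => by
    by_contra hkl
    exact (hrd k l hkl).1 (sub_eq_zero.2 h)
  set R : T[X] := Q - X with hRdef
  have hRd : R.natDegree < p := (natDegree_sub_le _ _).trans_lt (max_lt hQ (by rw [natDegree_X]; omega))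
  have hRk : ∀ k, aeval (r k) R = aeval (r k) Q - r k := fun k => by simp [hRdef]
  set z : ι → Ω := fun k => aeval (r k) R with hzdef
  have hz0' : z k₀ ≠ 0 := by rw [hzdef]; simp only [hRk]; exact hz0
  have hzv : v O (z k₀) = s * δ := by rw [hzdef]; simp only [hRk]; exact hz
  have hterm := term_mem O hT hδ.ne' hN0 hpN (hr0 k₀) (hr k₀) hRd (c := s * δ) (Or.inr hzv.ge)
  have hcoef : ∀ i < p, algebraMap T Ω (R.coeff i) ∈ G O ((s - i) * δ) := fun i hi => by
    have := div_mem_G O (pow_ne_zero i (hr0 k₀)) (hterm i hi)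
    rw [mul_div_cancel_right₀ _ (pow_ne_zero i (hr0 k₀)), v_pow O (hr0 k₀), hr] at this
    rwa [show (s - i) * δ = s * δ - i * δ by ring]
  -- differences of the `z k`
  have hzdiff : ∀ k l, k ≠ l → z k - z l ∈ G O ((s + I - 1) * δ) := by
    intro k l hkl
    simp only [hzdef, aeval_eq_sum_range' hRd, Algebra.smul_def, ← sum_sub_distrib, ← mul_sub]
    refine sum_mem fun i hi => ?_
    rw [mem_range] at hi
    rcases i with _ | i
    · simp [zero_mem]
    rw [← geom_sum₂_mul (r k) (r l) (i + 1)]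
    have h1 : ∑ j ∈ range (i + 1), r k ^ j * r l ^ (i + 1 - 1 - j) ∈ G O ((i : ℚ) * δ) := sum_mem fun j hj => by
      rw [mem_range] at hj
      have := mul_mem_G O (pow_mem_G O (mem_G_self O (r k)) j) (pow_mem_G O (mem_G_self O (r l)) (i + 1 - 1 - j))
      rw [hr, hr, ← add_mul, ← Nat.cast_add, show j + (i + 1 - 1 - j) = i by omega] at this
      exact this
    have h2 : r k - r l ∈ G O ((I : ℚ) * δ) := Or.inr (hrd k l hkl).2.ge
    have := mul_mem_G O (hcoef (i + 1) hi) (mul_mem_G O h1 h2)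
    convert this using 2
    push_cast
    ring
  set y : ι → Ω := fun k => aeval (r k) Q with hydef
  have hyz : ∀ k, y k = r k + z k := fun k => by simp only [hydef, hzdef, hRk]; ring
  have hyinj : Function.Injective y := fun k l h => by
    by_contra hkl
    obtain ⟨h1, h2⟩ := hrd k l hkl
    obtain ⟨h3, -⟩ := v_add_eq_of_lt O h1 (c := (s + I - 1) * δ) (by
      rw [h2]; exact mul_lt_mul_of_pos_right (by linarith) hδ) (hzdiff k l hkl)
    refine h3 ?_
    rw [hyz, hyz] at h
    linear_combination h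
  have hnod : Lagrange.nodal univ y = Lagrange.nodal univ r - C (algebraMap T Ω β) := by
    have hd : (Lagrange.nodal univ r).degree = (p : ℕ) := by rw [Lagrange.degree_nodal, card_univ, hp]
    have hCd : (C (algebraMap T Ω β)).degree < (Lagrange.nodal univ r).degree := by
      rw [hd]; exact degree_C_le.trans_lt (by exact_mod_cast (Fact.out : p.Prime).pos)
    refine Polynomial.eq_of_degree_sub_lt_of_eval_index_eq univ hyinj.injOn ?_ fun k _ => ?_
    · rw [card_univ, hp]
      have hdy : (Lagrange.nodal univ y).degree = (p : ℕ) := by rw [Lagrange.degree_nodal, card_univ, hp]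
      refine (degree_sub_lt_left ?_ Lagrange.nodal_monic.ne_zero ?_).trans_le hdy.le
      · rw [degree_sub_eq_left_of_degree_lt hCd, hdy, hd]
      · rw [Lagrange.nodal_monic.leadingCoeff, ((Lagrange.nodal_monic).sub_of_left hCd).leadingCoeff]
    · rw [Lagrange.eval_nodal_at_node (mem_univ k), eval_sub, eval_C, ← hf, eval_map, ← aeval_def, hroot,
        sub_self]
  set D : ℚ := ((p : ℚ) - 1) * I * δ with hDdef
  have hfm : f₀.Monic := by
    rw [← monic_map_iff (f := algebraMap T Ω), hf]
    exact Lagrange.nodal_monic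
  have hfd : f₀.natDegree = p := by
    rw [← natDegree_map (algebraMap T Ω), hf, Lagrange.natDegree_nodal, card_univ, hp]
  have hder : aeval (r k₀) (derivative f₀) ≠ 0 ∧ v O (aeval (r k₀) (derivative f₀)) = D := by
    rw [aeval_def, ← eval_map, ← derivative_map, hf, Lagrange.eval_nodal_derivative_eval_node_eq (mem_univ k₀),
      Lagrange.eval_nodal]
    have hne : ∀ l ∈ univ.erase k₀, r k₀ - r l ≠ 0 := fun l hl => (hrd k₀ l (ne_of_mem_erase hl).symm).1
    refine ⟨prod_ne_zero_iff.2 hne, ?_⟩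
    rw [v_prod O _ _ hne, sum_congr rfl fun l hl => (hrd k₀ l (ne_of_mem_erase hl).symm).2, sum_const,
      card_erase_of_mem (mem_univ k₀), card_univ, hp, nsmul_eq_mul, hDdef, Nat.cast_sub (by omega)]
    push_cast
    ring
  have hD : aeval (r k₀) (derivative f₀) ∈ G O D := Or.inr hder.2.ge
  -- the weighted sums
  have hA : ∀ m : ℕ, m + 2 ≤ p → ∑ k, z k * r k ^ m ∈
      G O ((2 * s + m - 1) * δ + D - ((p : ℚ) - 1) * δ) := by
    intro m hm
    set M := m + 1 with hM
    have hps := sum_pow_eq r y hinj hyinj _ hnod (n := n) (by rw [hp, hn]) (show M ≤ n by omega)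
    have hexp : ∀ k, y k ^ M = r k ^ M + (M : Ω) * (z k * r k ^ m) +
        ∑ q ∈ range m, aeval (r k) (R ^ (q + 2) * X ^ (m - (q + 1)) * (C ((M.choose (q + 2) : ℕ) : T))) := by
      intro k
      rw [hyz, add_comm (r k), add_pow]
      rw [show M + 1 = m + 2 from rfl, sum_range_succ', sum_range_succ']
      rw [Nat.choose_zero_right, Nat.choose_one_right]
      have : ∀ q ∈ range m, z k ^ (q + 1 + 1) * r k ^ (M - (q + 1 + 1)) * ((M.choose (q + 1 + 1) : ℕ) : Ω) =
          aeval (r k) (R ^ (q + 2) * X ^ (m - (q + 1)) * (C ((M.choose (q + 2) : ℕ) : T))) := fun q hq => by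
        simp only [map_mul, map_pow, aeval_X, map_natCast, hzdef, hM, show q + 1 + 1 = q + 2 from rfl,
          show m + 1 - (q + 2) = m - (q + 1) by omega]
      rw [sum_congr rfl this]
      simp only [zero_add, pow_one, pow_zero, one_mul, Nat.sub_zero, hM, Nat.add_sub_cancel, Nat.cast_one]
      ring
    simp only [hexp, sum_add_distrib, ← mul_sum] at hps
    rw [add_assoc, add_eq_left] at hps
    have hrest : ∑ k, ∑ q ∈ range m, aeval (r k) (R ^ (q + 2) * X ^ (m - (q + 1)) * (C ((M.choose (q + 2) : ℕ) : T)))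
        ∈ G O ((2 * s + m - 1) * δ + D - ((p : ℚ) - 1) * δ) := by
      rw [sum_comm]
      refine sum_mem fun q hq => sum_aeval_mem O hT hδ.ne' hN0 hpN hp hinj k₀ (hr0 k₀) (hr k₀) hf hD _ ?_
      rw [mem_range] at hq
      simp only [map_mul, map_pow, aeval_X, map_natCast]
      rw [mul_comm _ ((M.choose (q + 2) : ℕ) : Ω)]
      refine mul_mem_G_left O (by rw [← map_natCast (algebraMap O Ω)]; exact isIntegral_algebraMap) ?_
      have h1 := mul_mem_G O (pow_mem_G O (Or.inr hzv.ge : z k₀ ∈ G O (s * δ)) (q + 2))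
        (pow_mem_G O (Or.inr (hr k₀).ge : r k₀ ∈ G O δ) (m - (q + 1)))
      refine G_anti O ?_ h1
      rw [Nat.cast_sub (show q + 1 ≤ m by omega)]
      push_cast
      have hq0 : (0 : ℚ) ≤ q := Nat.cast_nonneg q
      nlinarith [mul_nonneg (mul_nonneg hq0 (sub_nonneg.2 hs1.le)) hδ.le]
    have hMA : (M : Ω) * ∑ k, z k * r k ^ m ∈ G O ((2 * s + m - 1) * δ + D - ((p : ℚ) - 1) * δ) := by
      rw [eq_neg_of_add_eq_zero_left hps]
      exact neg_mem hrest
    have hM0 : (M : Ω) ≠ 0 := by exact_mod_cast Nat.succ_ne_zero m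
    have := div_mem_G O hM0 hMA
    rwa [mul_div_cancel_left₀ _ hM0, hunit M (by omega) (by omega), sub_zero] at this
  -- the interpolation polynomial
  set B := (R * derivative f₀) %ₘ f₀ with hBdef
  have hBd : B.natDegree < p := by
    rw [← hfd]
    exact natDegree_modByMonic_lt _ hfm fun h => by
      rw [h, natDegree_one] at hfd
      exact (Fact.out : p.Prime).ne_zero hfd.symm
  have hBev : ∀ k, aeval (r k) B = z k * ∏ l ∈ univ.erase k, (r k - r l) := fun k => by
    have hroot' : aeval (r k) f₀ = 0 := by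
      rw [aeval_def, ← eval_map, hf, Lagrange.eval_nodal_at_node (mem_univ k)]
    rw [hBdef, aeval_modByMonic_eq_self_of_root hroot', map_mul, aeval_def (r k) (derivative f₀), ← eval_map,
      ← derivative_map, hf, Lagrange.eval_nodal_derivative_eval_node_eq (mem_univ k), Lagrange.eval_nodal]
  have hBW : B.map (algebraMap T Ω) = ∑ k, C (z k) * (f₀.map (algebraMap T Ω) /ₘ (X - C (r k))) := by
    have hdiv : ∀ k, f₀.map (algebraMap T Ω) /ₘ (X - C (r k)) = Lagrange.nodal (univ.erase k) r := fun k => by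
      rw [hf, Lagrange.nodal_eq_mul_nodal_erase (mem_univ k)]
      exact mul_divByMonic_cancel_left _ (monic_X_sub_C _)
    simp only [hdiv]
    refine Polynomial.eq_of_degrees_lt_of_eval_index_eq univ hinj.injOn ?_ ?_ fun k _ => ?_
    · rw [card_univ, hp, degree_map]
      exact degree_le_natDegree.trans_lt (by exact_mod_cast hBd)
    · rw [card_univ, hp, ← Polynomial.mem_degreeLT]
      refine Submodule.sum_mem _ fun k _ => ?_
      rw [← smul_eq_C_mul]
      refine Submodule.smul_mem _ _ ?_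
      rw [Polynomial.mem_degreeLT, Lagrange.degree_nodal, card_erase_of_mem (mem_univ k), card_univ, hp]
      exact_mod_cast Nat.sub_lt (Fact.out : p.Prime).pos one_pos
    · rw [eval_map, ← aeval_def, hBev, eval_finsetSum, sum_eq_single k]
      · rw [eval_C_mul, Lagrange.eval_nodal]
      · intro l _ hl
        rw [eval_C_mul, Lagrange.eval_nodal_at_node (mem_erase.2 ⟨Ne.symm hl, mem_univ k⟩), mul_zero]
      · exact fun h => absurd (mem_univ k) h
  have hBhigh : ∀ a, 1 ≤ a → a < p →
      algebraMap T Ω (B.coeff a) * r k₀ ^ a ∈ G O ((2 * s - 1) * δ + D) := by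
    intro a ha hap
    rw [← coeff_map, hBW, finsetSum_coeff]
    simp only [coeff_C_mul, coeff_divByMonic_X_sub_C, natDegree_map, hfd, mul_sum]
    rw [sum_comm, sum_mul]
    refine sum_mem fun i hi => ?_
    rw [Finset.mem_Icc] at hi
    have hci : (f₀.map (algebraMap T Ω)).coeff i ∈ G O (((p : ℚ) - i) * δ) := by
      have := coeff_prod_mem_G O univ r (fun k _ => Or.inr (hr k).ge) i (by rw [card_univ, hp]; exact hi.2)
      rwa [card_univ, hp, ← Lagrange.nodal, ← hf] at this
    rw [show (∑ k, z k * (r k ^ (i - (a + 1)) * (f₀.map (algebraMap T Ω)).coeff i)) * r k₀ ^ a =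
      (f₀.map (algebraMap T Ω)).coeff i * (∑ k, z k * r k ^ (i - (a + 1))) * r k₀ ^ a by
        rw [mul_sum]; congr 1; exact sum_congr rfl fun k _ => by ring]
    have h1 := mul_mem_G O (mul_mem_G O hci (hA (i - (a + 1)) (by omega)))
      (pow_mem_G O (Or.inr (hr k₀).ge : r k₀ ∈ G O δ) a)
    refine G_anti O (le_of_eq ?_) h1
    rw [Nat.cast_sub hi.1]
    push_cast
    ring
  have hv0 : v O (algebraMap T Ω (B.coeff 0)) = s * δ + D ∧ B.coeff 0 ≠ 0 := by
    have h := hBev k₀
    have hev : aeval (r k₀) B = z k₀ * aeval (r k₀) (derivative f₀) := by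
      rw [hBdef, aeval_modByMonic_eq_self_of_root (by
        rw [aeval_def, ← eval_map, hf, Lagrange.eval_nodal_at_node (mem_univ k₀)]), map_mul]
    have hne : aeval (r k₀) B ≠ 0 := hev ▸ mul_ne_zero hz0' hder.1
    have hv : v O (aeval (r k₀) B) = s * δ + D := by rw [hev, v_mul O hz0' hder.1, hzv, hder.2]
    rw [aeval_eq_sum_range' hBd, ← sum_erase_add _ _ (mem_range.2 (Fact.out : p.Prime).pos), pow_zero,
      Algebra.smul_def, mul_one] at hne hv
    set rest := ∑ x ∈ (range p).erase 0, B.coeff x • r k₀ ^ x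
    have hrest : rest ∈ G O ((2 * s - 1) * δ + D) := sum_mem fun a ha => by
      rw [mem_erase, mem_range] at ha
      rw [Algebra.smul_def]
      exact hBhigh a (Nat.one_le_iff_ne_zero.2 ha.1) ha.2
    have hlt : s * δ + D < (2 * s - 1) * δ + D := by
      have := mul_lt_mul_of_pos_right hs1 hδ
      rw [show (2 * s - 1) * δ = s * δ + (s * δ - 1 * δ) by ring]
      linarith
    obtain ⟨h1, h2⟩ := v_add_eq_of_lt O hne (c := (2 * s - 1) * δ + D) (by rw [hv]; exact hlt) (neg_mem hrest)
    rw [show rest + algebraMap T Ω (B.coeff 0) + -rest = algebraMap T Ω (B.coeff 0) by ring] at h1 h2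
    exact ⟨h2.trans hv, fun h0 => h1 (by rw [h0, map_zero])⟩
  obtain ⟨k, hk⟩ := hT _ hv0.2
  rw [hv0.1, hDdef, hsdef] at hk
  have hN' : (N : ℚ) ≠ 0 := by exact_mod_cast hN0
  have e : (p : ℚ) * N * I - 1 = k * p := by
    field_simp at hk
    linarith
  have e' : (p : ℤ) * N * I - 1 = k * p := by exact_mod_cast e
  have : (p : ℤ) ∣ 1 := ⟨N * I - k, by linarith⟩
  have := Int.le_of_dvd one_pos this
  omega

end Groth.Agent.FontRam
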