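import Groth.Agent.FontRam.Ext
import Groth.Prelude.Def_W4c1noabschz1DP
import Mathlib

/-!
# Divided powers on the ideals of large valuation
-/

set_option autoImplicit false
set_option linter.style.haveILetI false
set_option linter.unusedSectionVars false

open IsLocalRing

namespace Groth.Agent.FontRam

universe u

section OfHom

variable {B F : Type*} [CommRing B] [Field F] [CharZero F] (φ : B →+* F) (I : Ideal B)

open Classical in
/-- The chosen element with image `φ x ^ n / n!`. -/
noncomputable def dpowOfHom (n : ℕ) (x : B) : B :=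
  if h : x ∈ I ∧ ∃ y, φ y = φ x ^ n / n.factorial then h.2.choose else 0

variable {φ I}

theorem dpowOfHom_spec (hmem : ∀ x ∈ I, ∀ n : ℕ, n ≠ 0 → ∃ y ∈ I, φ y = φ x ^ n / n.factorial) (n : ℕ) {x : B}
    (hx : x ∈ I) : φ (dpowOfHom φ I n x) = φ x ^ n / n.factorial := by
  have h : x ∈ I ∧ ∃ y, φ y = φ x ^ n / n.factorial := by
    refine ⟨hx, ?_⟩
    rcases eq_or_ne n 0 with rfl | hn
    · exact ⟨1, by simp⟩
    · obtain ⟨y, -, hy⟩ := hmem x hx n hn
      exact ⟨y, hy⟩
  rw [dpowOfHom, dif_pos h]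
  exact h.2.choose_spec

open Classical in
/-- The divided powers `x ^ n / n!` pulled back along an injective map to a field of characteristic zero. -/
noncomputable def dpOfHom (hφ : Function.Injective φ)
    (hmem : ∀ x ∈ I, ∀ n : ℕ, n ≠ 0 → ∃ y ∈ I, φ y = φ x ^ n / n.factorial) : DividedPowers I where
  dpow := dpowOfHom φ I
  dpow_null {n x} hx := dif_neg fun h => hx h.1
  dpow_zero {x} hx := hφ (by rw [dpowOfHom_spec hmem 0 hx]; simp)
  dpow_one {x} hx := hφ (by rw [dpowOfHom_spec hmem 1 hx]; simp)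
  dpow_mem {n x} hn hx := by
    obtain ⟨y, hy, hy'⟩ := hmem x hx n hn
    rw [show dpowOfHom φ I n x = y from hφ (by rw [dpowOfHom_spec hmem n hx, hy'])]
    exact hy
  dpow_add {n x y} hx hy := hφ (by
    rw [dpowOfHom_spec hmem n (I.add_mem hx hy), map_sum, map_add]
    have h := (DividedPowers.RatAlgebra.dividedPowers (⊤ : Ideal F)).dpow_add (n := n)
      (Submodule.mem_top (x := φ x)) (Submodule.mem_top (x := φ y))
    simp only [DividedPowers.RatAlgebra.dpow_apply, Submodule.mem_top, if_true, Ring.inverse_eq_inv'] at h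
    rw [div_eq_inv_mul, h]
    exact Finset.sum_congr rfl fun k _ => by
      rw [map_mul, dpowOfHom_spec hmem _ hx, dpowOfHom_spec hmem _ hy, div_eq_inv_mul, div_eq_inv_mul])
  dpow_mul {n a x} hx := hφ (by
    rw [dpowOfHom_spec hmem n (I.mul_mem_left a hx), map_mul, map_mul, map_pow, dpowOfHom_spec hmem n hx, mul_pow,
      mul_div_assoc])
  mul_dpow {m n x} hx := hφ (by
    rw [map_mul, map_mul, map_natCast, dpowOfHom_spec hmem _ hx, dpowOfHom_spec hmem _ hx, dpowOfHom_spec hmem _ hx]
    have h := (DividedPowers.RatAlgebra.dividedPowers (⊤ : Ideal F)).mul_dpow (m := m) (n := n)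
      (Submodule.mem_top (x := φ x))
    simp only [DividedPowers.RatAlgebra.dpow_apply, Submodule.mem_top, if_true, Ring.inverse_eq_inv'] at h
    simp only [div_eq_inv_mul]
    exact h)
  dpow_comp {m n x} hn hx := hφ (by
    have hx' : dpowOfHom φ I n x ∈ I := by
      obtain ⟨y, hy, hy'⟩ := hmem x hx n hn
      rw [show dpowOfHom φ I n x = y from hφ (by rw [dpowOfHom_spec hmem n hx, hy'])]
      exact hy
    rw [map_mul, map_natCast, dpowOfHom_spec hmem m hx', dpowOfHom_spec hmem n hx, dpowOfHom_spec hmem _ hx]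
    have h := (DividedPowers.RatAlgebra.dividedPowers (⊤ : Ideal F)).dpow_comp (m := m) (n := n) hn
      (Submodule.mem_top (x := φ x))
    simp only [DividedPowers.RatAlgebra.dpow_apply, Submodule.mem_top, if_true, Ring.inverse_eq_inv'] at h
    simp only [div_eq_inv_mul]
    exact h)

theorem map_dpOfHom (hφ : Function.Injective φ)
    (hmem : ∀ x ∈ I, ∀ n : ℕ, n ≠ 0 → ∃ y ∈ I, φ y = φ x ^ n / n.factorial) (n : ℕ) {x : B} (hx : x ∈ I) :
    φ ((dpOfHom hφ hmem).dpow n x) = φ x ^ n / n.factorial := dpowOfHom_spec hmem n hx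

end OfHom

variable (O : Type u) [CommRing O] [IsDomain O] [IsDiscreteValuationRing O]
  [IsAdicComplete (maximalIdeal O) O] [CharZero O]
  {Ω : Type u} [Field Ω] [Algebra O Ω] [FaithfulSMul O Ω]
  [Algebra (FractionRing O) Ω] [IsScalarTower O (FractionRing O) Ω] [Algebra.IsAlgebraic (FractionRing O) Ω]
  (E : IntermediateField (FractionRing O) Ω)

/-- Elements of valuation at least `s`, as an ideal of the integral closure in `E`. -/
noncomputable def idealG (s : ℚ) : Ideal (integralClosure O E) where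
  carrier := {x | incl O E x ∈ G O s}
  zero_mem' := by simp [zero_mem]
  add_mem' {a b} ha hb := by
    show incl O E (a + b) ∈ G O s
    rw [map_add]; exact add_mem ha hb
  smul_mem' c x hx := by
    show incl O E (c * x) ∈ G O s
    rw [map_mul]; exact mul_mem_G_left O (isIntegral_incl O E c) hx

theorem mem_idealG {s : ℚ} {x : integralClosure O E} : x ∈ idealG O E s ↔ incl O E x ∈ G O s := Iff.rfl

theorem idealG_anti {s t : ℚ} (h : s ≤ t) : idealG O E t ≤ idealG O E s := fun _ hx => G_anti O h hx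

/-- Multiplication by a scalar of known valuation. -/
theorem span_mul_idealG {a : O} (ha : a ≠ 0) {t : ℚ} (ht : 0 ≤ t) :
    Ideal.span {algebraMap O (integralClosure O E) a} * idealG O E t = idealG O E (v O (algebraMap O Ω a) + t) := by
  have ha' : algebraMap O Ω a ≠ 0 := (map_ne_zero_iff _ (FaithfulSMul.algebraMap_injective O Ω)).2 ha
  ext x
  rw [Ideal.mem_span_singleton_mul, mem_idealG]
  refine ⟨?_, fun hx => ?_⟩
  · rintro ⟨y, hy, rfl⟩
    rw [map_mul, AlgHom.commutes]
    exact mul_mem_G O (mem_G_self O _) hy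
  · have h1 : incl O E x / algebraMap O Ω a ∈ G O t := by
      have := div_mem_G O ha' hx
      rwa [add_sub_cancel_left] at this
    obtain ⟨y, hy⟩ := exists_incl_eq O (E := E) (z := incl O E x / algebraMap O Ω a)
      (div_mem (x : E).2 (by rw [IsScalarTower.algebraMap_apply O (FractionRing O) Ω]; exact E.algebraMap_mem _))
      ((mem_G_zero_iff O).1 (G_anti O ht h1))
    refine ⟨y, by rw [mem_idealG, hy]; exact h1, incl_injective O E ?_⟩
    rw [map_mul, AlgHom.commutes, hy, mul_div_cancel₀ _ ha']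

variable (p : ℕ) [Fact p.Prime] [CharP (ResidueField O) p] (eK : ℕ)
  (heK : Ideal.span {(p : O)} = maximalIdeal O ^ eK)

include heK

theorem dp_bound {t : ℚ} {z : Ω} (hz : z ∈ G O t) (n : ℕ) :
    z ^ n / (n.factorial : Ω) ∈ G O (n * (t - eK / ((p : ℚ) - 1)) + if n = 0 then 0 else (eK : ℚ) / ((p : ℚ) - 1)) := by
  haveI : CharZero Ω := charZero_of_injective_algebraMap (FaithfulSMul.algebraMap_injective O Ω)
  have hf : (n.factorial : Ω) ≠ 0 := Nat.cast_ne_zero.2 (Nat.factorial_ne_zero n)
  refine G_anti O ?_ (div_mem_G O hf (pow_mem_G O hz n))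
  have hp1 : (0 : ℚ) < (p : ℚ) - 1 := by
    have : (2 : ℚ) ≤ p := by exact_mod_cast (Fact.out : p.Prime).two_le
    linarith
  have h := v_factorial_le O (Ω := Ω) p eK heK n
  rw [← le_div_iff₀ hp1, mul_div_assoc] at h
  split_ifs with h0
  · rw [if_pos h0] at h
    have h' : v O (n.factorial : Ω) ≤ 0 := by subst h0; simp
    subst h0
    simp at h' ⊢
  · rw [if_neg h0] at h
    have e : (eK : ℚ) * (((n : ℚ) - 1) / ((p : ℚ) - 1)) = n * (eK / ((p : ℚ) - 1)) - eK / ((p : ℚ) - 1) := by ring
    rw [e] at h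
    linarith

theorem exists_dp_topNilpotent {t : ℚ} (ht : (eK : ℚ) / ((p : ℚ) - 1) < t) :
    ∃ hI : DividedPowers (idealG O E t), W4c1noabschz1.IsDPTopNilpotent hI := by
  haveI : CharZero Ω := charZero_of_injective_algebraMap (FaithfulSMul.algebraMap_injective O Ω)
  have hp1 : (0 : ℚ) < (p : ℚ) - 1 := by
    have : (2 : ℚ) ≤ p := by exact_mod_cast (Fact.out : p.Prime).two_le
    linarith
  have he0 : (0 : ℚ) ≤ eK / ((p : ℚ) - 1) := div_nonneg (Nat.cast_nonneg _) hp1.le
  set δ := t - (eK : ℚ) / ((p : ℚ) - 1) with hδdef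
  have hδ : 0 < δ := by rw [hδdef]; linarith
  have hmem : ∀ x ∈ idealG O E t, ∀ n : ℕ, n ≠ 0 →
      ∃ y ∈ idealG O E t, (incl O E).toRingHom y = (incl O E).toRingHom x ^ n / n.factorial := by
    intro x hx n hn
    have h1 := dp_bound O p eK heK ((mem_idealG O E).1 hx) n
    rw [if_neg hn] at h1
    have h2 : incl O E x ^ n / (n.factorial : Ω) ∈ G O t := G_anti O (by
      have : (1 : ℚ) ≤ n := by exact_mod_cast Nat.one_le_iff_ne_zero.2 hn
      nlinarith) h1
    obtain ⟨y, hy⟩ := exists_incl_eq O (E := E) (z := incl O E x ^ n / (n.factorial : Ω))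
      (div_mem (pow_mem (x : E).2 n) (natCast_mem E _)) ((mem_G_zero_iff O).1 (G_anti O (by linarith) h2))
    exact ⟨y, by rw [mem_idealG, hy]; exact h2, hy⟩
  refine ⟨dpOfHom (φ := (incl O E).toRingHom) (incl_injective O E) hmem, ?_⟩
  have hle : ∀ m : ℕ, W4c1noabschz1.dpPow (dpOfHom (φ := (incl O E).toRingHom) (incl_injective O E) hmem) m ≤
      idealG O E (m * δ) := by
    intro m
    refine Ideal.span_le.2 ?_
    rintro z ⟨r, x, n, hx, hn, rfl⟩
    show incl O E _ ∈ G O _
    rw [map_prod]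
    refine G_anti O (s := (m : ℚ) * δ) (t := ∑ i, (n i : ℚ) * δ) ?_ ?_
    · rw [← Finset.sum_mul]
      exact mul_le_mul_of_nonneg_right (by exact_mod_cast hn) hδ.le
    · induction (Finset.univ : Finset (Fin r)) using Finset.induction with
      | empty => simpa using (mem_G_zero_iff O (Ω := Ω)).2 isIntegral_one
      | insert a s ha ih =>
        rw [Finset.prod_insert ha, Finset.sum_insert ha]
        refine mul_mem_G O ?_ ih
        have := dp_bound O p eK heK ((mem_idealG O E).1 (hx a)) (n a)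
        show (incl O E).toRingHom _ ∈ G O _
        rw [map_dpOfHom (incl_injective O E) hmem (n a) (hx a)]
        exact G_anti O (le_add_of_nonneg_right (by split_ifs <;> linarith)) this
  refine eq_bot_iff.2 fun x hx => Ideal.mem_bot.2 (by_contra fun hx0 => ?_)
  have hx0' : incl O E x ≠ 0 := (map_ne_zero_iff _ (incl_injective O E)).2 hx0
  obtain ⟨m, hm⟩ := exists_nat_gt (v O (incl O E x) / δ)
  have h := v_le_of_mem O hx0' ((mem_idealG O E).1 (hle m (Submodule.mem_iInf _ |>.1 hx m)))
  rw [div_lt_iff₀ hδ] at hm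
  linarith

end Groth.Agent.FontRam
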