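import Groth.Agent.FontRam.Val

/-!
# The valuation on a finite extension
-/

set_option autoImplicit false
set_option linter.style.haveILetI false
set_option linter.unusedSectionVars false

open IsLocalRing

namespace Groth.Agent.FontRam

universe u

variable (O : Type u) [CommRing O] [IsDomain O] [IsDiscreteValuationRing O]
  [IsAdicComplete (maximalIdeal O) O] [CharZero O]
  {Ω : Type u} [Field Ω] [Algebra O Ω] [FaithfulSMul O Ω]
  [Algebra (FractionRing O) Ω] [IsScalarTower O (FractionRing O) Ω] [Algebra.IsAlgebraic (FractionRing O) Ω]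

/-- Inclusion of the integral closure in a subfield. -/
noncomputable def incl (E : IntermediateField (FractionRing O) Ω) : integralClosure O E →ₐ[O] Ω :=
  (E.val.restrictScalars O).comp (integralClosure O E).val

theorem incl_injective (E : IntermediateField (FractionRing O) Ω) : Function.Injective (incl O E) :=
  fun _ _ h => Subtype.ext (Subtype.ext h)

theorem isIntegral_coe_iff (E : IntermediateField (FractionRing O) Ω) {x : E} :
    IsIntegral O (x : Ω) ↔ IsIntegral O x :=
  isIntegral_algHom_iff (E.val.restrictScalars O) E.val.toRingHom.injective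

theorem isIntegral_incl (E : IntermediateField (FractionRing O) Ω) (x : integralClosure O E) :
    IsIntegral O (incl O E x) := (isIntegral_coe_iff O E).2 x.2

theorem incl_mem_G_zero (E : IntermediateField (FractionRing O) Ω) (x : integralClosure O E) :
    incl O E x ∈ G O 0 := (mem_G_zero_iff O).2 (isIntegral_incl O E x)

theorem exists_incl_eq {E : IntermediateField (FractionRing O) Ω} {z : Ω} (hz : z ∈ E) (hi : IsIntegral O z) :
    ∃ x : integralClosure O E, incl O E x = z :=
  ⟨⟨⟨z, hz⟩, (isIntegral_coe_iff O E (x := ⟨z, hz⟩)).1 hi⟩, rfl⟩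

section Finite

variable (E : IntermediateField (FractionRing O) Ω) [FiniteDimensional (FractionRing O) E]
  (P : Ideal (integralClosure O E)) [P.IsMaximal]

theorem pos_of_irreducible {q : integralClosure O E} (hq : Irreducible q) : 0 < v O (incl O E q) := by
  have hq0 : incl O E q ≠ 0 := (map_ne_zero_iff _ (incl_injective O E)).2 hq.ne_zero
  refine lt_of_le_of_ne ((isIntegral_iff O hq0).1 (isIntegral_incl O E q)) fun h => hq.not_isUnit ?_
  have hi : IsIntegral O (incl O E q)⁻¹ := (isIntegral_iff O (inv_ne_zero hq0)).2 (by rw [v_inv O hq0, ← h]; simp)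
  obtain ⟨x, hx⟩ := exists_incl_eq O (E := E) (inv_mem (q : E).2) hi
  exact IsUnit.of_mul_eq_one x (incl_injective O E (by
    rw [map_mul, map_one, hx]
    exact mul_inv_cancel₀ hq0))

/-- The maximal ideal of the integral closure, its generator, and the ramification index. -/
theorem exists_gen : ∃ q : integralClosure O E, P = Ideal.span {q} ∧ Irreducible q ∧
    0 < P.ramificationIdx O ∧ v O (incl O E q) = 1 / (P.ramificationIdx O : ℚ) := by
  haveI := isDVR_ic O E
  obtain ⟨q, hq, e, he, hass⟩ := exists_unif O E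
  have hP : P = Ideal.span {q} := by
    rw [← hq.maximalIdeal_eq]
    exact IsLocalRing.eq_maximalIdeal ‹_›
  have hPm : P = maximalIdeal (integralClosure O E) := IsLocalRing.eq_maximalIdeal ‹_›
  haveI : Algebra.IsIntegral O (integralClosure O E) := IsIntegralClosure.isIntegral_algebra O E
  haveI : P.LiesOver (maximalIdeal O) := ⟨(IsLocalRing.eq_maximalIdeal
    (Ideal.isMaximal_comap_of_isIntegral_of_isMaximal P)).symm⟩
  have hmap : (maximalIdeal O).map (algebraMap O (integralClosure O E)) = P ^ e := by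
    rw [(unif_irreducible O).maximalIdeal_eq, Ideal.map_span, Set.image_singleton, hP, Ideal.span_singleton_pow,
      Ideal.span_singleton_eq_span_singleton]
    exact hass.symm
  have hne : (maximalIdeal O).map (algebraMap O (integralClosure O E)) ≠ ⊥ := by
    rw [hmap, hP, Ideal.span_singleton_pow, Ne, Ideal.span_singleton_eq_bot]
    exact pow_ne_zero _ hq.ne_zero
  haveI : IsFractionRing (integralClosure O E) E :=
    IsIntegralClosure.isFractionRing_of_finite_extension O (FractionRing O) E _
  have hram : P.ramificationIdx O = e := by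
    rw [← Ideal.ramificationIdx'_eq_ramificationIdx' (maximalIdeal O) P hne]
    refine Ideal.ramificationIdx'_spec hmap.le ?_
    rw [hmap, hP, Ideal.span_singleton_pow, Ideal.span_singleton_pow, Ideal.span_singleton_le_span_singleton,
      pow_dvd_pow_iff hq.ne_zero hq.not_isUnit]
    omega
  refine ⟨q, hP, hq, hram ▸ he, ?_⟩
  obtain ⟨u, hu⟩ := hass
  have h1 := congrArg (fun x => v O (incl O E x)) hu
  have hq0 : incl O E q ≠ 0 := (map_ne_zero_iff _ (incl_injective O E)).2 hq.ne_zero
  have hU : IsU O (incl O E u) := by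
    haveI : Algebra.IsIntegral O (integralClosure O E) := IsIntegralClosure.isIntegral_algebra O E
    exact isU_of_isUnit O (incl O E) u.isUnit
  simp only [map_mul, map_pow, AlgHom.commutes] at h1
  rw [v_mul O (pow_ne_zero _ hq0) hU.1, v_pow O hq0, v_of_isU O hU, add_zero,
    show algebraMap O Ω (unif O) = pO O Ω from rfl, v_pO] at h1
  rw [hram, eq_div_iff (by exact_mod_cast he.ne'), mul_comm]
  exact h1

theorem ram_pos : (0 : ℚ) < P.ramificationIdx O := by
  obtain ⟨q, -, -, he, -⟩ := exists_gen O E P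
  exact_mod_cast he

theorem mem_pow_iff {x : integralClosure O E} {j : ℕ} :
    x ∈ P ^ j ↔ incl O E x ∈ G O ((j : ℚ) / P.ramificationIdx O) := by
  obtain ⟨q, hP, hq, he, hv⟩ := exists_gen O E P
  have hq0 : incl O E q ≠ 0 := (map_ne_zero_iff _ (incl_injective O E)).2 hq.ne_zero
  rw [hP, Ideal.span_singleton_pow, Ideal.mem_span_singleton, ← hP]
  refine ⟨?_, fun h => ?_⟩
  · rintro ⟨y, rfl⟩
    rw [map_mul, map_pow, ← add_zero ((j : ℚ) / _)]
    refine mul_mem_G O (Or.inr ?_) (incl_mem_G_zero O E y)
    rw [v_pow O hq0, hv, mul_one_div]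
  · have h1 : incl O E x / incl O E q ^ j ∈ G O 0 := by
      have := div_mem_G O (pow_ne_zero j hq0) h
      rwa [v_pow O hq0, hv, mul_one_div, sub_self] at this
    obtain ⟨y, hy⟩ := exists_incl_eq O (E := E) (div_mem (x : E).2 (pow_mem (q : E).2 j)) ((mem_G_zero_iff O).1 h1)
    refine ⟨y, incl_injective O E ?_⟩
    rw [map_mul, map_pow, hy]
    exact (mul_div_cancel₀ _ (pow_ne_zero j hq0)).symm

/-- The value group of a finite extension. -/
theorem exists_v_eq {z : Ω} (hz : z ∈ E) (hz0 : z ≠ 0) : ∃ k : ℤ, v O z = (k : ℚ) / P.ramificationIdx O := by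
  haveI := isDVR_ic O E
  obtain ⟨q, hP, hq, he, hv⟩ := exists_gen O E P
  suffices key : ∀ w ∈ E, w ≠ 0 → IsIntegral O w → ∃ k : ℤ, v O w = (k : ℚ) / P.ramificationIdx O by
    by_cases hi : IsIntegral O z
    · exact key z hz hz0 hi
    obtain ⟨k, hk⟩ := key z⁻¹ (inv_mem hz) (inv_ne_zero hz0) ((isIntegral_iff O (inv_ne_zero hz0)).2 (by
      rw [v_inv O hz0]
      have := mt (isIntegral_iff O hz0).2 hi
      linarith [not_le.1 this]))
    refine ⟨-k, ?_⟩
    rw [v_inv O hz0] at hk
    push_cast
    rw [neg_div, ← hk, neg_neg]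
  intro w hw hw0 hi
  obtain ⟨x, hx⟩ := exists_incl_eq O hw hi
  obtain ⟨i, u, hu⟩ := IsDiscreteValuationRing.associated_pow_irreducible
    (show x ≠ 0 from fun h => hw0 (by rw [← hx, h, map_zero])) hq
  haveI : Algebra.IsIntegral O (integralClosure O E) := IsIntegralClosure.isIntegral_algebra O E
  have hU := isU_of_isUnit O (incl O E) u.isUnit
  have h1 := congrArg (fun y => v O (incl O E y)) hu
  simp only [map_mul, map_pow] at h1
  rw [hx, v_mul O hw0 hU.1, v_of_isU O hU, add_zero,
    v_pow O ((map_ne_zero_iff _ (incl_injective O E)).2 hq.ne_zero), hv, mul_one_div] at h1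
  exact ⟨(i : ℤ), by rw [Int.cast_natCast]; exact h1⟩

end Finite

section Nat

variable (p : ℕ) [Fact p.Prime] (eK : ℕ) (heK : Ideal.span {(p : O)} = maximalIdeal O ^ eK)

include heK

theorem v_p : v O ((p : ℕ) : Ω) = eK := by
  rw [(unif_irreducible O).maximalIdeal_eq, Ideal.span_singleton_pow, Ideal.span_singleton_eq_span_singleton] at heK
  obtain ⟨u, hu⟩ := heK
  haveI : Algebra.IsIntegral O O := Algebra.IsIntegral.of_finite O O
  have hU : IsU O (algebraMap O Ω u) := isU_of_isUnit O (Algebra.ofId O Ω) u.isUnit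
  have hp0 : ((p : ℕ) : Ω) ≠ 0 := by
    rw [← map_natCast (algebraMap O Ω), map_ne_zero_iff _ (FaithfulSMul.algebraMap_injective O Ω)]
    exact_mod_cast (Fact.out : p.Prime).ne_zero
  have h1 := congrArg (fun x => v O (algebraMap O Ω x)) hu
  simp only [map_mul, map_pow, map_natCast] at h1
  rw [v_mul O hp0 hU.1, v_of_isU O hU, add_zero, show algebraMap O Ω (unif O) = pO O Ω from rfl,
    v_pow O (pO_ne_zero O), v_pO, mul_one] at h1
  exact h1

theorem v_natCast [CharP (ResidueField O) p] {n : ℕ} (hn : n ≠ 0) : v O (n : Ω) = eK * padicValNat p n := by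
  obtain ⟨a, b, hb, rfl⟩ := Nat.exists_eq_pow_mul_and_not_dvd hn p (Fact.out : p.Prime).ne_one
  have hU : IsU O (b : Ω) := by
    have hu : IsUnit (b : O) := by
      by_contra h
      have h' : residue O (b : O) = 0 := (residue_eq_zero_iff _).2 h
      rw [map_natCast, CharP.cast_eq_zero_iff (ResidueField O) p] at h'
      exact hb h'
    haveI : Algebra.IsIntegral O O := Algebra.IsIntegral.of_finite O O
    simpa using isU_of_isUnit O (Algebra.ofId O Ω) hu
  have hp0 : ((p : ℕ) : Ω) ≠ 0 := by
    rw [← map_natCast (algebraMap O Ω), map_ne_zero_iff _ (FaithfulSMul.algebraMap_injective O Ω)]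
    exact_mod_cast (Fact.out : p.Prime).ne_zero
  have hb0 : b ≠ 0 := fun h => hb (h ▸ dvd_zero p)
  rw [Nat.cast_mul, Nat.cast_pow, v_mul O (pow_ne_zero _ hp0) hU.1, v_pow O hp0, v_p O p eK heK, v_of_isU O hU,
    padicValNat.mul (pow_ne_zero _ (Fact.out : p.Prime).ne_zero) hb0, padicValNat.prime_pow,
    padicValNat.eq_zero_of_not_dvd hb]
  push_cast
  ring

theorem v_factorial_le [CharP (ResidueField O) p] (n : ℕ) :
    v O ((Nat.factorial n : ℕ) : Ω) * ((p : ℚ) - 1) ≤ (eK : ℚ) * ((n : ℚ) - if n = 0 then 0 else 1) := by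
  rw [v_natCast O p eK heK (Nat.factorial_ne_zero n)]
  rcases eq_or_ne n 0 with rfl | hn
  · simp
  rw [if_neg hn]
  have h := sub_one_mul_padicValNat_factorial_lt_of_ne_zero p hn
  have h' : (p - 1) * padicValNat p (Nat.factorial n) + 1 ≤ n := h
  have h1 : ((p : ℚ) - 1) * padicValNat p (Nat.factorial n) + 1 ≤ n := by
    rw [← Nat.cast_one, ← Nat.cast_sub (Fact.out : p.Prime).one_le]
    exact_mod_cast h'
  have he : (0 : ℚ) ≤ eK := Nat.cast_nonneg _
  nlinarith

end Nat

end Groth.Agent.FontRam
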