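import Groth.Agent.FontRam.Ext
import Groth.Agent.FontLift.Rad
import Mathlib

/-!
# Monogenic generators of the integral closure in a finite Galois extension, and its different
-/

set_option autoImplicit false
set_option linter.style.haveILetI false
set_option linter.unusedSectionVars false
set_option linter.overlappingInstances false

open IsLocalRing Polynomial

namespace Groth.Agent.FontRam

universe u

variable (O : Type u) [CommRing O] [IsDomain O] [IsDiscreteValuationRing O]
  [IsAdicComplete (maximalIdeal O) O] [CharZero O]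
  {Ω : Type u} [Field Ω] [Algebra O Ω] [FaithfulSMul O Ω]
  [Algebra (FractionRing O) Ω] [IsScalarTower O (FractionRing O) Ω] [Algebra.IsAlgebraic (FractionRing O) Ω]
  [Normal (FractionRing O) Ω]
  (L : IntermediateField (FractionRing O) Ω) [FiniteDimensional (FractionRing O) L]

theorem module_finite_ic : Module.Finite O (integralClosure O L) :=
  IsIntegralClosure.finite O (FractionRing O) L _

/-- Valuations are invariant under automorphisms of a subfield. -/
theorem v_aut (σ : L ≃ₐ[FractionRing O] L) (x : L) : v O ((σ x : L) : Ω) = v O (x : Ω) := by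
  have h : (σ.liftNormal Ω) (x : Ω) = ((σ x : L) : Ω) := σ.liftNormal_commutes Ω x
  rw [← h]
  exact v_map O ((σ.liftNormal Ω).toAlgHom.restrictScalars O) _

theorem aut_mem_G {s : ℚ} (σ : L ≃ₐ[FractionRing O] L) {x : L} (hx : (x : Ω) ∈ G O s) :
    ((σ x : L) : Ω) ∈ G O s := by
  rcases hx with hx | hx
  · rw [show x = 0 from Subtype.ext hx, map_zero]; exact zero_mem _
  · exact Or.inr (by rwa [v_aut])

/-- The action on the integral closure. -/
noncomputable def autInt (σ : L ≃ₐ[FractionRing O] L) : integralClosure O L ≃ₐ[O] integralClosure O L :=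
  (σ.restrictScalars O).mapIntegralClosure

theorem incl_autInt (σ : L ≃ₐ[FractionRing O] L) (x : integralClosure O L) :
    incl O L (autInt O L σ x) = ((σ (x : L) : L) : Ω) := rfl

theorem exists_residue_gen [PerfectField (ResidueField O)] (P : Ideal (integralClosure O L)) [P.IsMaximal] :
    ∃ (θ : integralClosure O L) (g : O[X]), aeval θ g = 0 ∧ aeval θ (derivative g) ∉ P ∧
      ∀ z : integralClosure O L, ∃ h : O[X], z - aeval θ h ∈ P := by
  haveI := isDVR_ic O L
  haveI := module_finite_ic O L
  have hPm : P = maximalIdeal (integralClosure O L) := eq_maximalIdeal ‹_›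
  haveI : Algebra.IsIntegral O (integralClosure O L) := IsIntegralClosure.isIntegral_algebra O L
  haveI : IsLocalHom (algebraMap O (integralClosure O L)) :=
    ((local_hom_TFAE (algebraMap O (integralClosure O L))).out 4 0 rfl rfl).mp
      (eq_maximalIdeal (Ideal.isMaximal_comap_of_isIntegral_of_isMaximal (maximalIdeal _)))
  haveI : Algebra.IsSeparable (ResidueField O) (ResidueField (integralClosure O L)) :=
    Algebra.IsAlgebraic.isSeparable_of_perfectField
  obtain ⟨α, hα⟩ := Field.exists_primitive_element (ResidueField O) (ResidueField (integralClosure O L))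
  have hαi : IsIntegral (ResidueField O) α := Algebra.IsIntegral.isIntegral α
  obtain ⟨g, hg, -, hgm⟩ := lifts_and_degree_eq_and_monic
    ((lifts_iff_coeff_lifts _).2 fun n => residue_surjective ((minpoly (ResidueField O) α).coeff n))
    (minpoly.monic hαi)
  haveI : IsAdicComplete (Ideal.jacobson (⊥ : Ideal (integralClosure O L))) (integralClosure O L) :=
    FontLift.isAdicComplete_jac O _
  haveI : IsAdicComplete (maximalIdeal (integralClosure O L)) (integralClosure O L) := by
    rwa [← IsLocalRing.jacobson_eq_maximalIdeal (⊥ : Ideal (integralClosure O L)) bot_ne_top]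
  obtain ⟨a, ha⟩ := residue_surjective (R := integralClosure O L) α
  have hres : ∀ h : O[X], residue (integralClosure O L) (aeval a h) = aeval α (h.map (residue O)) := fun h => by
    rw [aeval_def, aeval_def, hom_eval₂, eval₂_map, ha]
    exact congrArg (fun φ : O →+* _ => eval₂ φ α h) (RingHom.ext fun x => rfl)
  have h0 : residue _ (aeval a g) = 0 := by rw [hres, hg, minpoly.aeval]
  have h1 : residue _ (aeval a (derivative g)) ≠ 0 := by
    rw [hres, ← derivative_map, hg]
    exact (Algebra.IsSeparable.isSeparable _ α).aeval_derivative_ne_zero (minpoly.aeval _ _)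
  obtain ⟨θ, hθ, hθa⟩ := HenselianRing.is_henselian (I := maximalIdeal (integralClosure O L))
    (g.map (algebraMap O _)) (hgm.map _) a
    (by rw [eval_map, ← aeval_def]; exact Ideal.Quotient.eq_zero_iff_mem.1 h0)
    (by rw [derivative_map, eval_map, ← aeval_def]; exact isUnit_iff_ne_zero.2 h1)
  have hθα : residue _ θ = α := (Ideal.Quotient.eq.2 hθa).trans ha
  have hresθ : ∀ h : O[X], residue (integralClosure O L) (aeval θ h) = aeval α (h.map (residue O)) := fun h => by
    rw [aeval_def, aeval_def, hom_eval₂, eval₂_map, hθα]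
    exact congrArg (fun φ : O →+* _ => eval₂ φ α h) (RingHom.ext fun x => rfl)
  refine ⟨θ, g, by rw [aeval_def, ← eval_map]; exact hθ, ?_, fun z => ?_⟩
  · rw [hPm, ← residue_eq_zero_iff, hresθ, ← derivative_map, hg]
    exact (Algebra.IsSeparable.isSeparable _ α).aeval_derivative_ne_zero (minpoly.aeval _ _)
  · have hz : residue _ z ∈ Algebra.adjoin (ResidueField O) {α} := by
      rw [← IntermediateField.adjoin_simple_toSubalgebra_of_isAlgebraic hαi.isAlgebraic, hα]
      trivial
    rw [Algebra.adjoin_singleton_eq_range_aeval] at hz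
    obtain ⟨hb, hhb⟩ := hz
    obtain ⟨h, rfl⟩ := map_surjective (residue O) residue_surjective hb
    refine ⟨h, ?_⟩
    rw [hPm, ← residue_eq_zero_iff, map_sub, hresθ, sub_eq_zero]
    exact hhb.symm

/-- `O_L = O[θ + π]` with `θ` fixed by inertia and `π` a uniformizer. -/
theorem exists_generator [PerfectField (ResidueField O)] (P : Ideal (integralClosure O L)) [P.IsMaximal] :
    ∃ θ π : integralClosure O L,
      v O (incl O L π) = 1 / (P.ramificationIdx O : ℚ) ∧
      (∀ σ : L ≃ₐ[FractionRing O] L,
        incl O L (autInt O L σ θ) - incl O L θ ∈ G O (1 / (P.ramificationIdx O : ℚ)) → autInt O L σ θ = θ) ∧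
      Algebra.adjoin O ({θ + π} : Set (integralClosure O L)) = ⊤ := by
  obtain ⟨θ, g, hg, hg', hres⟩ := exists_residue_gen O L P
  obtain ⟨q, hP, hq, he, hv⟩ := exists_gen O L P
  haveI := module_finite_ic O L
  haveI : Algebra.IsIntegral O (integralClosure O L) := IsIntegralClosure.isIntegral_algebra O L
  refine ⟨θ, q, hv, fun σ hσ => ?_, ?_⟩
  · set θ' := autInt O L σ θ with hθ'
    have h1 : θ' - θ ∈ P := by
      rw [← pow_one P, mem_pow_iff O L P, map_sub]
      rwa [Nat.cast_one]
    have h2 : aeval θ' g = 0 := by rw [hθ', aeval_algHom_apply, hg, map_zero]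
    set G' := g.map (algebraMap O (integralClosure O L))
    obtain ⟨k, hk⟩ : ∃ k, aeval θ' g = aeval θ g + aeval θ (derivative g) * (θ' - θ) + k * (θ' - θ) ^ 2 := by
      obtain ⟨k, hk⟩ := binomExpansion G' θ (θ' - θ)
      refine ⟨k, ?_⟩
      rw [add_sub_cancel] at hk
      simpa [G', eval_map, aeval_def, derivative_map] using hk
    rw [hg, h2, zero_add] at hk
    by_contra hne
    have h3 : aeval θ (derivative g) + k * (θ' - θ) = 0 := by
      refine (mul_eq_zero.1 (show (θ' - θ) * (aeval θ (derivative g) + k * (θ' - θ)) = 0 by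
        rw [show (θ' - θ) * (aeval θ (derivative g) + k * (θ' - θ)) =
          aeval θ (derivative g) * (θ' - θ) + k * (θ' - θ) ^ 2 by ring, ← hk])).resolve_left (sub_ne_zero.2 hne)
    exact hg' (by rw [eq_neg_of_add_eq_zero_left h3]; exact neg_mem (P.mul_mem_left k h1))
  · set B := Algebra.adjoin O ({θ + q} : Set (integralClosure O L))
    have hB : ∀ h : O[X], aeval (θ + q) h ∈ B := fun h => by
      simp only [B, Algebra.adjoin_singleton_eq_range_aeval]
      exact ⟨h, rfl⟩
    have hstep : ∀ (z : integralClosure O L), ∃ b ∈ B, ∃ w, z = b + q * w := fun z => by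
      obtain ⟨h, hh⟩ := hres z
      have hqP : q ∈ P := hP ▸ Ideal.mem_span_singleton_self q
      have h1 : aeval (θ + q) h - aeval θ h ∈ P := by
        obtain ⟨c, hc⟩ := sub_dvd_eval_sub (θ + q) θ (h.map (algebraMap O (integralClosure O L)))
        simp only [eval_map, ← aeval_def] at hc
        rw [hc, add_sub_cancel_left]
        exact P.mul_mem_right _ hqP
      have h2 : z - aeval (θ + q) h ∈ P := by simpa using sub_mem hh h1
      rw [hP, Ideal.mem_span_singleton] at h2
      obtain ⟨w, hw⟩ := h2
      exact ⟨_, hB h, w, by rw [← hw]; ring⟩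
    -- a uniformizer inside `B`
    obtain ⟨b₁, hb₁, hass⟩ : ∃ b ∈ B, Associated q b := by
      refine ⟨aeval (θ + q) g, hB g, ?_⟩
      obtain ⟨k, hk⟩ := binomExpansion (g.map (algebraMap O (integralClosure O L))) θ q
      simp only [eval_map, derivative_map, ← aeval_def] at hk
      rw [hg, zero_add] at hk
      rw [show aeval (θ + q) g = q * (aeval θ (derivative g) + k * q) by rw [hk]; ring]
      refine (associated_mul_unit_right q _ ?_)
      haveI := isDVR_ic O L
      refine IsLocalRing.notMem_maximalIdeal.1 fun hm => hg' ?_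
      rw [← eq_maximalIdeal ‹P.IsMaximal›] at hm
      exact (Ideal.add_mem_iff_left _ (P.mul_mem_left k (hP ▸ Ideal.mem_span_singleton_self q))).1 hm
    obtain ⟨uq, huq⟩ := hass
    have hall : ∀ j : ℕ, ∀ z : integralClosure O L, ∃ b ∈ B, ∃ w, z = b + q ^ j * w := by
      intro j
      induction j with
      | zero => exact fun z => ⟨0, zero_mem _, z, by rw [pow_zero, one_mul, zero_add]⟩
      | succ j ih =>
        intro z
        obtain ⟨b, hb, w, rfl⟩ := ih z
        obtain ⟨b', hb', w', hw'⟩ := hstep (w * (↑uq⁻¹ : integralClosure O L) ^ j)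
        refine ⟨b + b₁ ^ j * b', add_mem hb (mul_mem (pow_mem hb₁ j) hb'),
          w' * (uq : integralClosure O L) ^ j, ?_⟩
        have e1 : q ^ j * w = b₁ ^ j * (w * (↑uq⁻¹ : integralClosure O L) ^ j) := by
          rw [← huq, mul_pow, mul_mul_mul_comm, ← mul_pow, Units.mul_inv, one_pow, mul_one]
        rw [e1, hw', mul_add, ← huq, mul_pow, pow_succ]
        ring
    obtain ⟨q', hq', e, hepos, u, hu⟩ := exists_unif O L
    haveI := isDVR_ic O L
    obtain ⟨uu, huu⟩ := (IsDiscreteValuationRing.associated_of_irreducible (integralClosure O L) hq hq').pow_pow (n := e)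
    rw [← top_le_iff, ← Subalgebra.toSubmodule.le_iff_le, Algebra.top_toSubmodule]
    refine Submodule.le_of_le_smul_of_le_jacobson_bot (I := maximalIdeal O) Module.Finite.fg_top
      (by rw [IsLocalRing.jacobson_eq_maximalIdeal (⊥ : Ideal O) bot_ne_top]) fun z _ => ?_
    obtain ⟨b, hb, w, rfl⟩ := hall e z
    refine Submodule.mem_sup.2 ⟨b, hb, q ^ e * w, ?_, rfl⟩
    have e2 : q ^ e * w = unif O • ((↑u⁻¹ : integralClosure O L) * (↑uu⁻¹ : integralClosure O L) * w) := by
      rw [Algebra.smul_def, ← hu, ← huu]
      calc q ^ e * w = q ^ e * ((uu : integralClosure O L) * ↑uu⁻¹) * ((u : integralClosure O L) * ↑u⁻¹) * w := by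
            rw [Units.mul_inv, Units.mul_inv, mul_one, mul_one]
        _ = _ := by ring
    rw [e2]
    exact Submodule.smul_mem_smul ((unif_irreducible O).maximalIdeal_eq ▸ Ideal.mem_span_singleton_self _)
      Submodule.mem_top

section Product

open scoped Classical

variable [Normal (FractionRing O) L] {x : integralClosure O L}

theorem adjoin_field_eq_top (hx : Algebra.adjoin O ({x} : Set (integralClosure O L)) = ⊤) :
    Algebra.adjoin (FractionRing O) ({(x : L)} : Set L) = ⊤ := by
  refine eq_top_iff.2 fun z _ => ?_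
  haveI : IsFractionRing (integralClosure O L) L :=
    IsIntegralClosure.isFractionRing_of_finite_extension O (FractionRing O) L _
  haveI : Algebra.IsAlgebraic (FractionRing O) L := Algebra.IsAlgebraic.of_finite _ _
  let A := Algebra.adjoin (FractionRing O) ({(x : L)} : Set L)
  have hmem : ∀ b : integralClosure O L, (b : L) ∈ A := fun b => by
    have hb : b ∈ Algebra.adjoin O ({x} : Set (integralClosure O L)) := hx ▸ Algebra.mem_top
    induction hb using Algebra.adjoin_induction with
    | mem y hy =>
      rw [Set.mem_singleton_iff.1 hy]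
      exact Algebra.self_mem_adjoin_singleton _ _
    | algebraMap r =>
      show algebraMap O L r ∈ A
      rw [IsScalarTower.algebraMap_apply O (FractionRing O) L]
      exact A.algebraMap_mem _
    | add a b _ _ ha hb => exact add_mem ha hb
    | mul a b _ _ ha hb => exact mul_mem ha hb
  obtain ⟨a, b, hb, rfl⟩ := IsFractionRing.div_surjective (integralClosure O L) z
  have hAf : IsField A := Subalgebra.isField_of_algebraic A
  show (a : L) / (b : L) ∈ A
  rw [div_eq_mul_inv]
  refine mul_mem (hmem a) ?_
  exact A.inv_mem_of_algebraic (x := ⟨(b : L), hmem b⟩) (Algebra.IsAlgebraic.isAlgebraic _)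

theorem minpoly_eq_prod (hx : Algebra.adjoin O ({x} : Set (integralClosure O L)) = ⊤) :
    ((minpoly O x).map (algebraMap O L)) = Lagrange.nodal Finset.univ (fun σ : L ≃ₐ[FractionRing O] L => σ (x : L)) := by
  haveI : Algebra.IsSeparable (FractionRing O) L := inferInstance
  haveI : IsGalois (FractionRing O) L := ⟨⟩
  have htop := adjoin_field_eq_top O L hx
  have hi : IsIntegral (FractionRing O) (x : L) := Algebra.IsIntegral.isIntegral _
  have hinj : Function.Injective fun σ : L ≃ₐ[FractionRing O] L => σ (x : L) := fun σ τ h =>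
    AlgEquiv.coe_toAlgHom_injective (AlgHom.ext_of_adjoin_eq_top htop (by rintro y rfl; exact h))
  have hxi : IsIntegral O x := IsIntegralClosure.isIntegral O L x
  have hmin : minpoly (FractionRing O) (x : L) = (minpoly O x).map (algebraMap O (FractionRing O)) :=
    minpoly.isIntegrallyClosed_eq_field_fractions (FractionRing O) L hxi
  have e : (minpoly O x).map (algebraMap O L) = (minpoly (FractionRing O) (x : L)).map (algebraMap _ L) := by
    rw [hmin, Polynomial.map_map, ← IsScalarTower.algebraMap_eq]
  rw [e]
  have hdeg : (minpoly (FractionRing O) (x : L)).natDegree = Fintype.card (L ≃ₐ[FractionRing O] L) := by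
    rw [← IntermediateField.adjoin.finrank hi,
      show IntermediateField.adjoin (FractionRing O) ({(x : L)} : Set L) = ⊤ from
        IntermediateField.adjoin_eq_top_of_algebra _ _ htop,
      IntermediateField.finrank_top', ← IsGalois.card_aut_eq_finrank, Nat.card_eq_fintype_card]
  set f := (minpoly (FractionRing O) (x : L)).map (algebraMap _ L)
  have hfm : f.Monic := (minpoly.monic hi).map _
  have hnm : (Lagrange.nodal Finset.univ fun σ : L ≃ₐ[FractionRing O] L => σ (x : L)).Monic := Lagrange.nodal_monic
  have hfd : f.degree = (Finset.univ : Finset (L ≃ₐ[FractionRing O] L)).card := by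
    rw [degree_map, degree_eq_natDegree (minpoly.ne_zero hi), hdeg, Finset.card_univ]
  refine eq_of_degree_sub_lt_of_eval_index_eq Finset.univ hinj.injOn ?_ fun σ _ => ?_
  · refine lt_of_lt_of_le (degree_sub_lt_left (hfd.trans Lagrange.degree_nodal.symm) hfm.ne_zero
      (hfm.leadingCoeff.trans hnm.leadingCoeff.symm)) hfd.le
  · rw [Lagrange.eval_nodal_at_node (v := fun σ : L ≃ₐ[FractionRing O] L => σ (x : L)) (Finset.mem_univ σ), eval_map, ← aeval_def, aeval_algHom_apply σ,
      minpoly.aeval, map_zero]

theorem aeval_eq_prod (hx : Algebra.adjoin O ({x} : Set (integralClosure O L)) = ⊤) (Y : Ω) :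
    aeval Y (minpoly O x) = ∏ σ : L ≃ₐ[FractionRing O] L, (Y - ((σ (x : L) : L) : Ω)) := by
  have h := congrArg (fun P : L[X] => eval₂ L.val.toRingHom Y P) (minpoly_eq_prod O L hx)
  simp only [eval₂_map, Lagrange.nodal, eval₂_finsetProd, eval₂_sub, eval₂_X, eval₂_C] at h
  rw [aeval_def, show algebraMap O Ω = L.val.toRingHom.comp (algebraMap O L) from RingHom.ext fun r => rfl, h]
  rfl

/-- `f'(x) = ∏_{σ ≠ 1} (x - σ x)`. -/
theorem aeval_derivative_eq_prod (hx : Algebra.adjoin O ({x} : Set (integralClosure O L)) = ⊤) :
    incl O L (aeval x (derivative (minpoly O x))) =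
      ∏ σ ∈ (Finset.univ : Finset (L ≃ₐ[FractionRing O] L)).erase 1, ((x : L) - σ (x : L) : L) := by
  classical
  have h := congrArg (fun P : L[X] => eval (x : L) (derivative P)) (minpoly_eq_prod O L hx)
  simp only [derivative_map, eval_map, ← aeval_def] at h
  have h1 : ((1 : L ≃ₐ[FractionRing O] L) (x : L)) = (x : L) := rfl
  have h2 := Lagrange.eval_nodal_derivative_eval_node_eq
    (v := fun σ : L ≃ₐ[FractionRing O] L => σ (x : L)) (Finset.mem_univ (1 : L ≃ₐ[FractionRing O] L))
  rw [h1, Lagrange.eval_nodal] at h2
  rw [h2] at h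
  show L.val ((integralClosure O L).val (aeval x (derivative (minpoly O x)))) = _
  rw [← aeval_algHom_apply (integralClosure O L).val x]
  show L.val (aeval (x : L) (derivative (minpoly O x))) = _
  rw [h]
  rfl

theorem differentIdeal_eq_span (hx : Algebra.adjoin O ({x} : Set (integralClosure O L)) = ⊤)
    [Module.IsTorsionFree O (integralClosure O L)] :
    differentIdeal O (integralClosure O L) = Ideal.span {aeval x (derivative (minpoly O x))} := by
  haveI := module_finite_ic O L
  haveI := isDVR_ic O L
  have htop := adjoin_field_eq_top O L hx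
  rw [← conductor_mul_differentIdeal O (FractionRing O) L x htop, conductor_eq_top_of_adjoin_eq_top hx,
    Ideal.top_mul]

end Product

end Groth.Agent.FontRam
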