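import Groth.Agent.FontRam.DP
import Groth.Agent.FontRam.Mono

/-!
# Fontaine's property from the lifting lemma
-/

set_option autoImplicit false
set_option linter.style.haveILetI false
set_option linter.unusedSectionVars false
set_option linter.overlappingInstances false

open IsLocalRing

namespace Groth.Agent.FontRam

universe u

variable (O : Type u) [CommRing O] [IsDomain O] [IsDiscreteValuationRing O]
  [IsAdicComplete (maximalIdeal O) O] [CharZero O]
  {Ω : Type u} [Field Ω] [Algebra O Ω] [FaithfulSMul O Ω]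
  [Algebra (FractionRing O) Ω] [IsScalarTower O (FractionRing O) Ω] [Algebra.IsAlgebraic (FractionRing O) Ω]
  [Normal (FractionRing O) Ω]
  {A : Type u} [CommRing A] [Algebra O A]

/-- Unique lifting along the ideals of valuation `> c` with a loss of `va`. -/
def LiftProp (A : Type u) [CommRing A] [Algebra O A] (Ω : Type u) [Field Ω] [Algebra O Ω] [FaithfulSMul O Ω]
    [Algebra (FractionRing O) Ω] [IsScalarTower O (FractionRing O) Ω] [Algebra.IsAlgebraic (FractionRing O) Ω]
    (va c : ℚ) : Prop :=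
  ∀ (E : IntermediateField (FractionRing O) Ω), FiniteDimensional (FractionRing O) E → ∀ t : ℚ, c < t →
    (∀ χ χ' : A →ₐ[O] integralClosure O E, (∀ x, χ' x - χ x ∈ idealG O E t) → χ' = χ) ∧
    (∀ m : ℚ, m = va + t → ∀ ψ : A →ₐ[O] integralClosure O E ⧸ idealG O E m, ∃ χ : A →ₐ[O] integralClosure O E,
      ∀ x z, Ideal.Quotient.mk _ z = ψ x → χ x - z ∈ idealG O E t)

section Points

variable [Module.Finite O A] (L : IntermediateField (FractionRing O) Ω)

theorem finite_points : Finite (A →ₐ[O] Ω) := by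
  classical
  obtain ⟨s, hs⟩ := Module.Finite.fg_top (R := O) (M := A)
  haveI : ∀ g : A, Finite {z : Ω // z ∈ ((minpoly O g).map (algebraMap O Ω)).roots.toFinset} := fun g => inferInstance
  have hmem : ∀ (φ : A →ₐ[O] Ω) (g : A), φ g ∈ ((minpoly O g).map (algebraMap O Ω)).roots.toFinset := fun φ g => by
    have hg : IsIntegral O g := IsIntegral.of_finite O g
    rw [Multiset.mem_toFinset, Polynomial.mem_roots ((minpoly.monic hg).map _).ne_zero, Polynomial.IsRoot,
      Polynomial.eval_map, ← Polynomial.aeval_def, Polynomial.aeval_algHom_apply, minpoly.aeval, map_zero]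
  refine Finite.of_injective (fun φ : A →ₐ[O] Ω => fun g : s =>
    (⟨φ g, hmem φ g⟩ : {z : Ω // z ∈ ((minpoly O (g : A)).map (algebraMap O Ω)).roots.toFinset})) fun φ φ' h => ?_
  refine AlgHom.toLinearMap_injective (LinearMap.ext_on hs ?_)
  intro g hg
  exact congrArg Subtype.val (congrFun h ⟨g, hg⟩)

/-- A point with values in `L`, on the integral closure. -/
noncomputable def pointIC (φ : A →ₐ[O] Ω) (h : ∀ x, φ x ∈ L) : A →ₐ[O] integralClosure O L :=
  ((φ.codRestrict (L.toSubalgebra.restrictScalars O) h).codRestrict (integralClosure O L) fun x =>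
    (isIntegral_coe_iff O L).1 (IsIntegral.map φ (IsIntegral.of_finite O x)) :)

theorem incl_pointIC (φ : A →ₐ[O] Ω) (h : ∀ x, φ x ∈ L) (x : A) : incl O L (pointIC O L φ h x) = φ x := rfl

end Points

/-- An algebra map modulo a small ideal detects valuations. -/
theorem mem_G_of_map_mem_G (L E : IntermediateField (FractionRing O) Ω) [FiniteDimensional (FractionRing O) L]
    {m t : ℚ} (h1 : 1 < m) (htm : t ≤ m) (τ : integralClosure O L →ₐ[O] integralClosure O E ⧸ idealG O E m)
    {w : integralClosure O L} {z : integralClosure O E} (hz : Ideal.Quotient.mk _ z = τ w)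
    (hzt : incl O E z ∈ G O t) : incl O L w ∈ G O t := by
  haveI := isDVR_ic O L
  obtain ⟨q, hq, e, he, u₀, hu₀⟩ := exists_unif O L
  rcases eq_or_ne w 0 with rfl | hw
  · rw [map_zero]; exact zero_mem _
  have hunit : ∀ (u : (integralClosure O L)ˣ) (r : integralClosure O E), Ideal.Quotient.mk _ r = τ u →
      incl O E r ≠ 0 ∧ v O (incl O E r) = 0 := by
    intro u r hr
    obtain ⟨r', hr'⟩ := Ideal.Quotient.mk_surjective (τ (↑u⁻¹ : integralClosure O L))
    have h2 : r * r' - 1 ∈ idealG O E m := by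
      rw [← Ideal.Quotient.eq, map_mul, hr, hr', ← map_mul, Units.mul_inv, map_one, map_one]
    have h3 : incl O E r * incl O E r' - 1 ∈ G O m := by simpa [mem_idealG] using h2
    obtain ⟨h4, h5⟩ := v_add_eq_of_lt O (one_ne_zero (α := Ω)) (c := m) (by rw [v_one]; linarith) h3
    rw [add_sub_cancel] at h4 h5
    have hr0 : incl O E r ≠ 0 := left_ne_zero_of_mul h4
    have hr0' : incl O E r' ≠ 0 := right_ne_zero_of_mul h4
    refine ⟨hr0, ?_⟩
    rw [v_mul O hr0 hr0', v_one] at h5
    have i1 := (isIntegral_iff O hr0).1 (isIntegral_incl O E r)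
    have i2 := (isIntegral_iff O hr0').1 (isIntegral_incl O E r')
    linarith
  obtain ⟨zq, hzq⟩ := Ideal.Quotient.mk_surjective (τ q)
  obtain ⟨r₀, hr₀⟩ := Ideal.Quotient.mk_surjective (τ u₀)
  obtain ⟨hr₀0, hr₀v⟩ := hunit u₀ r₀ hr₀
  have hq1 : zq ^ e * r₀ - algebraMap O _ (unif O) ∈ idealG O E m := by
    rw [← Ideal.Quotient.eq, map_mul, map_pow, hzq, hr₀, ← map_pow, ← map_mul, hu₀, AlgHom.commutes]
    rfl
  have hq2 : incl O E zq ^ e * incl O E r₀ - pO O Ω ∈ G O m := by
    have := (mem_idealG O E).1 hq1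
    rwa [map_sub, map_mul, map_pow, AlgHom.commutes] at this
  obtain ⟨h4, h5⟩ := v_add_eq_of_lt O (pO_ne_zero O (Ω := Ω)) (c := m) (by rw [v_pO]; linarith) hq2
  rw [add_sub_cancel] at h4 h5
  have hzq0 : incl O E zq ≠ 0 := fun h => h4 (by rw [h, zero_pow he.ne', zero_mul])
  rw [v_mul O (pow_ne_zero _ hzq0) hr₀0, v_pow O hzq0, hr₀v, add_zero, v_pO] at h5
  obtain ⟨i, u, hu⟩ := IsDiscreteValuationRing.associated_pow_irreducible hw hq
  have hw' : w = q ^ i * (↑u⁻¹ : integralClosure O L) := by rw [← hu, mul_assoc, Units.mul_inv, mul_one]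
  obtain ⟨ru, hru⟩ := Ideal.Quotient.mk_surjective (τ (↑u⁻¹ : integralClosure O L))
  obtain ⟨hru0, hruv⟩ := hunit u⁻¹ ru hru
  have hzw : incl O E z - incl O E zq ^ i * incl O E ru ∈ G O m := by
    have : z - zq ^ i * ru ∈ idealG O E m := by
      rw [← Ideal.Quotient.eq, hz, map_mul, map_pow, hzq, hru, ← map_pow, ← map_mul, ← hw']
    simpa [mem_idealG] using this
  have hq0 : incl O L q ≠ 0 := (map_ne_zero_iff _ (incl_injective O L)).2 hq.ne_zero
  have hvq : (e : ℚ) * v O (incl O L q) = 1 := by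
    have h := congrArg (fun x => v O (incl O L x)) hu₀
    haveI : Algebra.IsIntegral O (integralClosure O L) := IsIntegralClosure.isIntegral_algebra O L
    have hU := isU_of_isUnit O (incl O L) u₀.isUnit
    simp only [map_mul, map_pow, AlgHom.commutes] at h
    rwa [v_mul O (pow_ne_zero _ hq0) hU.1, v_of_isU O hU, add_zero, v_pow O hq0,
      show algebraMap O Ω (unif O) = pO O Ω from rfl, v_pO] at h
  have he' : (e : ℚ) ≠ 0 := by exact_mod_cast he.ne'
  have hveq : v O (incl O L q) = v O (incl O E zq) := mul_left_cancel₀ he' (hvq.trans h5.symm)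
  have hprod0 : incl O E zq ^ i * incl O E ru ≠ 0 := mul_ne_zero (pow_ne_zero _ hzq0) hru0
  have hprodv : v O (incl O E zq ^ i * incl O E ru) = i * v O (incl O L q) := by
    rw [v_mul O (pow_ne_zero _ hzq0) hru0, hruv, v_pow O hzq0, add_zero, hveq]
  have hi : t ≤ i * v O (incl O L q) := by
    by_contra hlt
    obtain ⟨h6, h7⟩ := v_add_eq_of_lt O hprod0 (c := m) (by rw [hprodv]; linarith [not_le.1 hlt]) hzw
    rw [add_sub_cancel] at h6 h7
    have := v_le_of_mem O h6 hzt
    rw [h7, hprodv] at this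
    exact hlt this
  rw [hw', map_mul, map_pow]
  exact mul_comm (incl O L q ^ i) _ ▸ mul_mem_G_left O (isIntegral_incl O L _)
    (Or.inr (by rw [v_pow O hq0]; exact hi))

/-- Fontaine's property. -/
theorem le_of_approx [Module.Finite O A] {va c : ℚ} (hva : 0 ≤ va) (hlift : LiftProp O A Ω va c)
    (L : IntermediateField (FractionRing O) Ω) [FiniteDimensional (FractionRing O) L]
    (hL : L = IntermediateField.adjoin (FractionRing O) (⋃ φ : A →ₐ[O] Ω, Set.range φ))
    (E : IntermediateField (FractionRing O) Ω) [FiniteDimensional (FractionRing O) E]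
    {m : ℚ} (hm : va + c < m) (h1 : 1 < m)
    (τ : integralClosure O L →ₐ[O] integralClosure O E ⧸ idealG O E m) : L ≤ E := by
  classical
  haveI := finite_points O (Ω := Ω) (A := A)
  have hLmem : ∀ (φ : A →ₐ[O] Ω) (x : A), φ x ∈ L := fun φ x => by
    rw [hL]
    exact IntermediateField.subset_adjoin _ _ (Set.mem_iUnion.2 ⟨φ, x, rfl⟩)
  have ht : c < m - va := by linarith
  have hm' : va + (m - va) = m := by ring
  have hex : ∀ φ : A →ₐ[O] Ω, ∃ χ : A →ₐ[O] integralClosure O E, ∀ x z,
      Ideal.Quotient.mk _ z = τ (pointIC O L φ (hLmem φ) x) → χ x - z ∈ idealG O E (m - va) := by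
    intro φ
    exact (hlift E inferInstance (m - va) ht).2 m hm'.symm (τ.comp (pointIC O L φ (hLmem φ)))
  choose χ hχ using hex
  let F : (A →ₐ[O] Ω) → (A →ₐ[O] Ω) := fun φ => (incl O E).comp (χ φ)
  have hF : Function.Injective F := by
    intro φ φ' h
    have hχeq : χ φ = χ φ' := AlgHom.ext fun x => incl_injective O E (AlgHom.congr_fun h x)
    have hp : pointIC O L φ' (hLmem φ') = pointIC O L φ (hLmem φ) :=
      (hlift L inferInstance (m - va) ht).1 _ _ fun x => by
        obtain ⟨z, hz⟩ := Ideal.Quotient.mk_surjective (τ (pointIC O L φ (hLmem φ) x))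
        obtain ⟨z', hz'⟩ := Ideal.Quotient.mk_surjective (τ (pointIC O L φ' (hLmem φ') x))
        refine mem_G_of_map_mem_G O L E h1 (by linarith) τ (z := z' - z) ?_ ?_
        · rw [map_sub, map_sub, hz, hz']
        · have h' := sub_mem (hχ φ x z hz) (hχ φ' x z' hz')
          rw [hχeq, sub_sub_sub_cancel_left] at h'
          exact h'
    exact AlgHom.ext fun x => by
      rw [← incl_pointIC O L φ (hLmem φ) x, ← hp]
      exact incl_pointIC O L φ' (hLmem φ') x
  rw [hL, IntermediateField.adjoin_le_iff, Set.iUnion_subset_iff]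
  intro φ
  obtain ⟨φ', hφ'⟩ := (Finite.injective_iff_surjective.1 hF) φ
  rintro _ ⟨x, rfl⟩
  rw [← hφ']
  exact ((χ φ' x : integralClosure O E) : E).2

end Groth.Agent.FontRam
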