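import Groth.Agent.FontRam.Bound
import Groth.Agent.FontRam.PartB

/-!
# Ramification bound for a finite algebra with unique liftings
-/

set_option autoImplicit false
set_option linter.style.haveILetI false
set_option linter.unusedSectionVars false
set_option linter.overlappingInstances false

open IsLocalRing

namespace Groth.Agent.FontRam

universe u

variable (O : Type u) [CommRing O] [IsDomain O] [IsDiscreteValuationRing O]
  [IsAdicComplete (maximalIdeal O) O] [CharZero O]
  {Ω : Type u} [Field Ω] [Algebra O Ω] [FaithfulSMul O Ω]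
  [Algebra (FractionRing O) Ω] [IsScalarTower O (FractionRing O) Ω] [Algebra.IsAlgebraic (FractionRing O) Ω]
  [Normal (FractionRing O) Ω]
  {A : Type u} [CommRing A] [Algebra O A]
  (L : IntermediateField (FractionRing O) Ω)

theorem normal_adjoin_points
    (hL : L = IntermediateField.adjoin (FractionRing O) (⋃ φ : A →ₐ[O] Ω, Set.range φ)) :
    Normal (FractionRing O) L := by
  rw [IntermediateField.normal_iff_forall_map_le]
  intro σ
  rw [hL, IntermediateField.adjoin_map]
  refine IntermediateField.adjoin.mono _ _ _ ?_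
  rintro _ ⟨z, hz, rfl⟩
  obtain ⟨φ, a, rfl⟩ := Set.mem_iUnion.1 hz
  exact Set.mem_iUnion.2 ⟨(σ.restrictScalars O).comp φ, a, rfl⟩

theorem isTorsionFree_ic (E : IntermediateField (FractionRing O) Ω) :
    Module.IsTorsionFree O (integralClosure O E) := by
  rw [Module.isTorsionFree_iff_faithfulSMul, faithfulSMul_iff_algebraMap_injective]
  intro a b h
  exact FaithfulSMul.algebraMap_injective O Ω (congrArg (fun z : integralClosure O E => incl O E z) h)

variable [FiniteDimensional (FractionRing O) L]

/-- For unramified algebras there is no ramification. -/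
theorem eq_one_of_formallyUnramified [Module.Finite O A] [Algebra.FormallyUnramified O A]
    (hL : L = IntermediateField.adjoin (FractionRing O) (⋃ φ : A →ₐ[O] Ω, Set.range φ))
    (P : Ideal (integralClosure O L)) [P.IsMaximal] (σ : L ≃ₐ[FractionRing O] L)
    (hσ : ∀ z, incl O L (autInt O L σ z) - incl O L z ∈ G O ((1 : ℕ) / (P.ramificationIdx O : ℚ))) : σ = 1 := by
  have hPbot : ⨅ i : ℕ, P ^ i = ⊥ := by
    refine eq_bot_iff.2 fun z hz => Ideal.mem_bot.2 (by_contra fun hz0 => ?_)
    have he := ram_pos O L P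
    have hz0' : incl O L z ≠ 0 := (map_ne_zero_iff _ (incl_injective O L)).2 hz0
    obtain ⟨n, hn⟩ := exists_nat_gt (v O (incl O L z) * P.ramificationIdx O)
    have h := v_le_of_mem O hz0' ((mem_pow_iff O L P).1 (Submodule.mem_iInf _ |>.1 hz n))
    rw [div_le_iff₀ he] at h
    linarith
  have hmem : ∀ (φ : A →ₐ[O] Ω) (a : A), φ a ∈ L := fun φ a => by
    rw [hL]; exact IntermediateField.subset_adjoin _ _ (Set.mem_iUnion.2 ⟨φ, a, rfl⟩)
  have hfix : ∀ (φ : A →ₐ[O] Ω) (a : A),
      σ (⟨φ a, hmem φ a⟩ : L) = ⟨φ a, hmem φ a⟩ := by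
    intro φ a
    have := Algebra.FormallyUnramified.ext_of_iInf (R := O) (A := A) (I := P) hPbot
      (g₁ := (autInt O L σ).toAlgHom.comp (pointIC O L φ (hmem φ))) (g₂ := pointIC O L φ (hmem φ)) fun x => by
        rw [Ideal.Quotient.eq, ← pow_one P, mem_pow_iff, map_sub]
        exact hσ _
    exact congrArg Subtype.val (AlgHom.congr_fun this a)
  refine AlgEquiv.ext fun z => ?_
  have hle : L ≤ IntermediateField.lift (IntermediateField.fixedField (Subgroup.zpowers σ)) := by
    conv_lhs => rw [hL]
    rw [IntermediateField.adjoin_le_iff, Set.iUnion_subset_iff]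
    rintro φ _ ⟨a, rfl⟩
    refine (IntermediateField.mem_lift (⟨φ a, hmem φ a⟩ : L)).2 ?_
    rintro ⟨τ, hτ⟩
    have hst : Subgroup.zpowers σ ≤ MulAction.stabilizer (L ≃ₐ[FractionRing O] L) (⟨φ a, hmem φ a⟩ : L) := by
      rw [Subgroup.zpowers_le, MulAction.mem_stabilizer_iff]
      exact hfix φ a
    exact hst hτ
  exact (IntermediateField.mem_lift z).1 (hle z.2) ⟨σ, Subgroup.mem_zpowers σ⟩

/-- The ramification bound from unique liftings with a loss of `va`. -/
theorem bound_of_lift [IsAlgClosed Ω] [Module.IsTorsionFree O (integralClosure O L)] [Module.Finite O A]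
    [PerfectField (ResidueField O)] (p : ℕ) [Fact p.Prime] [CharP (ResidueField O) p] (va : ℕ) {c : ℚ} (hc : 0 ≤ c)
    (hlift : LiftProp O A Ω va c) (hunr : va = 0 → Algebra.FormallyUnramified O A)
    (hL : L = IntermediateField.adjoin (FractionRing O) (⋃ φ : A →ₐ[O] Ω, Set.range φ))
    (P : Ideal (integralClosure O L)) [P.IsMaximal] :
    ∃ d : ℕ, differentIdeal O (integralClosure O L) = P ^ d ∧ ((va = 0 → d = 0)) ∧
      ∀ σ : L ≃ₐ[FractionRing O] L, σ ≠ 1 → ∀ j : ℕ,
        (∀ z, incl O L (autInt O L σ z) - incl O L z ∈ G O ((j : ℚ) / P.ramificationIdx O)) →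
          (j : ℚ) + d ≤ (P.ramificationIdx O : ℚ) * (va + c) := by
  classical
  haveI := normal_adjoin_points O L hL
  rcases Nat.eq_zero_or_pos va with rfl | hva
  · haveI := hunr rfl
    obtain ⟨θ, π, -, -, hx⟩ := exists_generator O L P
    obtain ⟨d, hd, hdv⟩ := exists_different_exponent O L P hx
    have he := ram_pos O L P
    have hι : ∀ τ : L ≃ₐ[FractionRing O] L, τ ≠ 1 → ∀ j : ℕ,
        (∀ z, incl O L (autInt O L τ z) - incl O L z ∈ G O ((j : ℚ) / P.ramificationIdx O)) → j = 0 := by
      intro τ hτ j hj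
      by_contra hj0
      refine hτ (eq_one_of_formallyUnramified O L hL P τ fun z => G_anti O ?_ (hj z))
      exact div_le_div_of_nonneg_right (by exact_mod_cast Nat.one_le_iff_ne_zero.2 hj0) he.le
    have hd0 : d = 0 := by
      have h0 : dSum O L (θ + π) = 0 := by
        refine Finset.sum_eq_zero fun τ hτ => ?_
        have hτ1 := Finset.ne_of_mem_erase hτ
        have hne : incl O L (autInt O L τ (θ + π)) - incl O L (θ + π) ≠ 0 := by
          rw [← neg_sub]; exact neg_ne_zero.2 (sub_ne_zero_of_ne O L hx hτ1)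
        rw [← neg_sub, v_neg]
        obtain ⟨k, hk⟩ := exists_v_eq O L P (z := incl O L (autInt O L τ (θ + π)) - incl O L (θ + π))
          (sub_mem (autInt O L τ (θ + π) : L).2 (θ + π : integralClosure O L).1.2) hne
        have h1 := (isIntegral_iff O hne).1 ((isIntegral_incl O L _).sub (isIntegral_incl O L _))
        rw [hk, le_div_iff₀ he, zero_mul] at h1
        obtain ⟨i, rfl⟩ := Int.eq_ofNat_of_zero_le (show 0 ≤ k by exact_mod_cast h1)
        rw [Int.cast_natCast] at hk
        rw [hk, hι τ hτ1 i fun z => sub_mem_G_of_adjoin O L hx τ (Or.inr hk.ge) z, Nat.cast_zero, zero_div]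
      rw [h0, mul_zero] at hdv
      exact_mod_cast hdv
    refine ⟨d, hd, fun _ => hd0, fun σ hσ j hj => ?_⟩
    rw [hι σ hσ j hj, hd0]
    simp only [Nat.cast_zero, zero_add, add_zero]
    exact mul_nonneg he.le hc
  · have hP : FontP O L ((va : ℚ) + c) := fun E hE m hm τ => by
      have h1 : (1 : ℚ) ≤ va := by exact_mod_cast hva
      exact le_of_approx O (Nat.cast_nonneg _) hlift L hL E hm (by linarith) τ
    obtain ⟨d, hd, hb⟩ := bound_of_property O L p (T := (va : ℚ) + c) (by
      have : (1 : ℚ) ≤ va := by exact_mod_cast hva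
      linarith) hP P
    exact ⟨d, hd, fun h => absurd h hva.ne', hb⟩

end Groth.Agent.FontRam
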