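import Groth.Agent.FontRam.Roots
import Groth.Agent.FontLift.Rad
import Groth.Prelude.Def_SGA3b
import Mathlib

/-!
# Unique liftings for finite flat group schemes killed by `p ^ n`, over a complete domain
-/

set_option autoImplicit false
set_option linter.style.haveILetI false
set_option linter.unusedSectionVars false
set_option linter.overlappingInstances false
set_option synthInstance.maxHeartbeats 100000

open IsLocalRing WithConv TensorProduct

namespace Groth.Agent.FontRam

universe u

section Conv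

variable {O : Type*} [CommRing O] {C D R R' : Type*} [CommRing R] [Algebra O R] [CommRing R'] [Algebra O R']
  [AddCommGroup C] [Module O C] [Coalgebra O C]

/-- Post-composition. -/
noncomputable def postHom (h : R →ₐ[O] R') : WithConv (C →ₗ[O] R) →+* WithConv (C →ₗ[O] R') where
  toFun f := toConv (h.toLinearMap.comp f.ofConv)
  map_one' := by ext x; exact h.commutes _
  map_mul' f g := by
    apply ofConv_injective
    exact LinearMap.algHom_comp_convMul_distrib h f g
  map_zero' := by ext x; exact map_zero h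
  map_add' f g := by ext x; exact map_add h (f x) (g x)

/-- Pre-composition with a coalgebra map. -/
noncomputable def preHom [AddCommGroup D] [Module O D] [Coalgebra O D] (h : D →ₗc[O] C) :
    WithConv (C →ₗ[O] R) →+* WithConv (D →ₗ[O] R) where
  toFun f := toConv (f.ofConv.comp h.toLinearMap)
  map_one' := by
    ext x
    show algebraMap O R (CoalgebraStruct.counit (h x)) = algebraMap O R (CoalgebraStruct.counit x)
    rw [CoalgHomClass.counit_comp_apply]
  map_mul' f g := by
    apply ofConv_injective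
    exact LinearMap.convMul_comp_coalgHom_distrib f g h
  map_zero' := by ext x; rfl
  map_add' f g := by ext x; rfl

end Conv

section Bialg

variable {O A : Type u} [CommRing O] {R : Type*} [CommRing R] [Algebra O R] [CommRing A] [HopfAlgebra O A]

/-- Evaluation at `1`. -/
noncomputable def evalOne : WithConv (A →ₗ[O] R) →+* R where
  toFun f := f 1
  map_one' := by simp
  map_mul' f g := by
    rw [LinearMap.convMul_apply, Bialgebra.comul_one, Algebra.TensorProduct.one_def, TensorProduct.map_tmul,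
      LinearMap.mul'_apply]
  map_zero' := rfl
  map_add' f g := rfl

/-- `f ↦ f ⊗ f`, multiplied. -/
noncomputable def sqHom : WithConv (A →ₗ[O] R) →* WithConv (A ⊗[O] A →ₗ[O] R) where
  toFun f := toConv ((Algebra.TensorProduct.lmul' O).toLinearMap.comp (TensorProduct.map f.ofConv f.ofConv))
  map_one' := by
    ext a b
    simp [mul_comm]
  map_mul' f g := by
    apply ofConv_injective
    have h := TensorProduct.map_convMul_map (f := f) (g := f) (h := g) (k := g)
    rw [show TensorProduct.map (f * g).ofConv (f * g).ofConv =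
      (toConv (TensorProduct.map f.ofConv f.ofConv) * toConv (TensorProduct.map g.ofConv g.ofConv)).ofConv from
        (congrArg WithConv.ofConv h).symm]
    exact LinearMap.algHom_comp_convMul_distrib (Algebra.TensorProduct.lmul' O) _ _

theorem sqHom_apply (f : WithConv (A →ₗ[O] R)) (a b : A) : sqHom f (a ⊗ₜ b) = f a * f b := by
  simp [sqHom]

/-- A point of a group killed by `N` is `N`-torsion. -/
theorem pow_eq_one_of_killed {N : ℕ}
    (hkill : SGA3b.powConv O A N = (Algebra.ofId O A).comp (Bialgebra.counitAlgHom O A)) (φ : A →ₐ[O] R) :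
    (toConv φ.toLinearMap) ^ N = 1 := by
  have h1 : (postHom φ) ((toConv (AlgHom.id O A).toLinearMap) ^ N) = (postHom φ) 1 := by
    congr 1
    rw [← AlgHom.toLinearMap_convOne, ← show toConv ((toConv (AlgHom.id O A)) ^ N).ofConv.toLinearMap =
      toConv (AlgHom.id O A).toLinearMap ^ N from AlgHom.toLinearMap_convPow _ N]
    exact congrArg (fun ψ : A →ₐ[O] A => toConv ψ.toLinearMap) hkill
  rw [map_pow, map_one] at h1
  exact h1

end Bialg

section Abstract

variable {O : Type u} [CommRing O] [IsLocalRing O] [IsNoetherianRing O] [IsAdicComplete (maximalIdeal O) O]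
  {S : Type u} [CommRing S] [IsDomain S] [Algebra O S] [Module.Finite O S]

theorem isAdicComplete_of_mS {B : Type*} [CommRing B] [Algebra O B] [Algebra S B] [IsScalarTower O S B]
    [Module.Finite O B] {q : S} {e : ℕ} (he : 0 < e)
    (hass : (maximalIdeal O).map (algebraMap O S) = Ideal.span {q ^ e}) :
    IsAdicComplete (Ideal.span {algebraMap S B q}) B := by
  haveI := FontLift.isAdicComplete_mS O B
  have hm : FontLift.mS O B = Ideal.span {algebraMap S B (q ^ e)} := by
    rw [FontLift.mS, IsScalarTower.algebraMap_eq O S B, ← Ideal.map_map, hass, Ideal.map_span, Set.image_singleton]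
  refine (AdicLib.iff_of_pow_le (I := FontLift.mS O B) (c := 1) (d := e) Nat.one_pos he ?_ ?_).1 inferInstance
  · rw [hm, pow_one, Ideal.span_singleton_le_span_singleton]
    exact map_dvd _ (dvd_pow_self q he.ne')
  · rw [hm, Ideal.span_singleton_pow, map_pow]

section Conv

variable {C : Type u} [AddCommGroup C] [Module O C] [Coalgebra O C] [Coalgebra.IsCocomm O C]

theorem conv_smul_apply (c : S) (f : WithConv (C →ₗ[O] S)) (x : C) :
    (algebraMap S (WithConv (C →ₗ[O] S)) c * f) x = c * f x := by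
  rw [← Algebra.smul_def]
  rfl

theorem conv_mul_eq_zero {γ : S} (hγ : γ ≠ 0) (f : WithConv (C →ₗ[O] S))
    (h : algebraMap S _ γ * f = 0) : f = 0 := by
  ext x
  have := congrArg (fun g : WithConv (C →ₗ[O] S) => g x) h
  simp only [conv_smul_apply] at this
  exact (mul_eq_zero.1 this).resolve_left hγ

theorem dvd_of_forall_dvd {γ : S} (hγ : γ ≠ 0) (f : WithConv (C →ₗ[O] S))
    (h : ∀ x, γ ∣ f x) : algebraMap S _ γ ∣ f := by
  choose g hg using h
  refine ⟨toConv { toFun := g, map_add' := fun x y => ?_, map_smul' := fun c x => ?_ }, ?_⟩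
  · refine mul_left_cancel₀ hγ ?_
    rw [← hg, mul_add, ← hg, ← hg]
    exact map_add f.ofConv x y
  · refine mul_left_cancel₀ hγ ?_
    rw [RingHom.id_apply, ← hg, mul_smul_comm, ← hg]
    exact map_smul f.ofConv c x
  · ext x
    rw [conv_smul_apply]
    exact hg x

variable [Module.Free O C] [Module.Finite O C]

theorem isAdicComplete_conv {q : S} {e : ℕ} (he : 0 < e)
    (hass : (maximalIdeal O).map (algebraMap O S) = Ideal.span {q ^ e}) :
    IsAdicComplete (Ideal.span {algebraMap S (WithConv (C →ₗ[O] S)) q}) (WithConv (C →ₗ[O] S)) := by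
  haveI : Module.Finite O (C →ₗ[O] S) := inferInstance
  haveI : Module.Finite O (WithConv (C →ₗ[O] S)) := Module.Finite.equiv (WithConv.linearEquiv O (C →ₗ[O] S)).symm
  haveI : IsScalarTower O S (WithConv (C →ₗ[O] S)) := IsScalarTower.of_algebraMap_eq fun c => by
    ext x; simp [Algebra.smul_def]
  exact isAdicComplete_of_mS he hass

/-- No torsion close to one. -/
theorem eq_one_conv {p n e : ℕ} (hp : 2 ≤ p) (hp0 : (p : S) ≠ 0) {q γ : S} (he : 0 < e)
    (hass : (maximalIdeal O).map (algebraMap O S) = Ideal.span {q ^ e}) (hγ0 : γ ≠ 0) (hGood : Good p q γ)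
    (x : WithConv (C →ₗ[O] S)) (hx : postHom (Ideal.Quotient.mkₐ O (Ideal.span {γ})) x = 1)
    (hxN : x ^ p ^ n = 1) : x = 1 := by
  haveI := isAdicComplete_conv (O := O) (C := C) he hass
  have hd : algebraMap S _ γ ∣ x - 1 := by
    refine dvd_of_forall_dvd hγ0 _ fun a => ?_
    rw [← map_one (postHom (C := C) (Ideal.Quotient.mkₐ O (Ideal.span {γ})))] at hx
    exact Ideal.mem_span_singleton.1 (Ideal.Quotient.eq.1
      (congrArg (fun g : WithConv (C →ₗ[O] S ⧸ Ideal.span {γ}) => g a) hx))
  obtain ⟨y, hy⟩ := hd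
  have hx1 : x = 1 + algebraMap S _ γ * y := by rw [← hy]; ring
  rw [hx1] at hxN
  rw [hx1, eq_one_of_pow hp n (hGood.map (algebraMap S _)) (fun z hz => ?_) y hxN, add_zero]
  rw [← map_natCast (algebraMap S (WithConv (C →ₗ[O] S))), ← map_mul] at hz
  exact conv_mul_eq_zero (mul_ne_zero hp0 hγ0) z hz

end Conv

variable {A : Type u} [CommRing A] [HopfAlgebra O A] [Module.Finite O A] [Module.Free O A] [Coalgebra.IsCocomm O A]
  {p n e : ℕ} {q γ : S}

/-- Uniqueness of liftings. -/
theorem unique_of_killed (hkill : SGA3b.powConv O A (p ^ n) = (Algebra.ofId O A).comp (Bialgebra.counitAlgHom O A))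
    (hp : 2 ≤ p) (hp0 : (p : S) ≠ 0) (he : 0 < e)
    (hass : (maximalIdeal O).map (algebraMap O S) = Ideal.span {q ^ e}) (hγ0 : γ ≠ 0) (hGood : Good p q γ)
    (χ χ' : A →ₐ[O] S) (h : ∀ a, γ ∣ χ' a - χ a) : χ' = χ := by
  have hN1 : 1 ≤ p ^ n := Nat.one_le_pow _ _ (by omega)
  let π := Ideal.Quotient.mkₐ O (Ideal.span {γ})
  have hχ := pow_eq_one_of_killed hkill χ
  have hχ' := pow_eq_one_of_killed hkill χ'
  set X := toConv χ.toLinearMap with hX
  set X' := toConv χ'.toLinearMap with hX'
  have he1 : postHom π X' = postHom π X := by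
    ext a
    exact Ideal.Quotient.eq.2 (Ideal.mem_span_singleton.2 (h a))
  have hu : X' * X ^ (p ^ n - 1) = 1 := by
    refine eq_one_conv (n := n) hp hp0 he hass hγ0 hGood _ ?_ ?_
    · rw [map_mul, map_pow, he1, ← pow_succ', Nat.sub_add_cancel hN1]
      exact pow_eq_one_of_killed hkill (π.comp χ)
    · rw [mul_pow, hχ', one_mul, ← pow_mul, mul_comm, pow_mul, hχ, one_pow]
  have : X' = X := by
    calc X' = X' * X ^ (p ^ n) := by rw [hχ, mul_one]
      _ = X' * X ^ (p ^ n - 1) * X := by rw [mul_assoc, ← pow_succ, Nat.sub_add_cancel hN1]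
      _ = X := by rw [hu, one_mul]
  exact AlgHom.ext fun a => congrArg (fun g : WithConv (A →ₗ[O] S) => g a) this

/-- Existence of liftings. -/
theorem exists_lift_of_killed (hkill : SGA3b.powConv O A (p ^ n) = (Algebra.ofId O A).comp (Bialgebra.counitAlgHom O A))
    (hp : 2 ≤ p) (hp0 : (p : S) ≠ 0) (he : 0 < e)
    (hass : (maximalIdeal O).map (algebraMap O S) = Ideal.span {q ^ e}) (hγ0 : γ ≠ 0) (hqγ : q ∣ γ)
    (hGood : Good p q γ) (ψ : A →ₐ[O] S ⧸ Ideal.span {(p : S) ^ n * γ}) :
    ∃ χ : A →ₐ[O] S, ∀ a x, Ideal.Quotient.mk _ x = ψ a → γ ∣ χ a - x := by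
  have hN1 : 1 ≤ p ^ n := Nat.one_le_pow _ _ (by omega)
  haveI := isAdicComplete_conv (O := O) (C := A) he hass
  haveI : IsAdicComplete (Ideal.span {q}) S := by
    have h := isAdicComplete_of_mS (O := O) (B := S) he hass
    rwa [Algebra.algebraMap_self, RingHom.id_apply] at h
  obtain ⟨χ₀, hχ₀⟩ := Module.projective_lifting_property (Ideal.Quotient.mkₐ O (Ideal.span {(p : S) ^ n * γ})).toLinearMap
    ψ.toLinearMap (Ideal.Quotient.mkₐ_surjective O _)
  let πm := Ideal.Quotient.mkₐ O (Ideal.span {(p : S) ^ n * γ})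
  let π := Ideal.Quotient.mkₐ O (Ideal.span {γ})
  let X : WithConv (A →ₗ[O] S) := toConv χ₀
  set η := algebraMap S (WithConv (A →ₗ[O] S))
  have hXm : postHom πm X = toConv ψ.toLinearMap := congrArg toConv hχ₀
  obtain ⟨w, hw⟩ : η ((p : S) ^ n * γ) ∣ X ^ p ^ n - 1 := by
    refine dvd_of_forall_dvd (mul_ne_zero (pow_ne_zero _ hp0) hγ0) _ fun a => ?_
    have h1 : postHom πm (X ^ p ^ n) = postHom πm 1 := by
      rw [map_pow, hXm, map_one]; exact pow_eq_one_of_killed hkill ψ
    exact Ideal.mem_span_singleton.1 (Ideal.Quotient.eq.1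
      (congrArg (fun g : WithConv (A →ₗ[O] S ⧸ Ideal.span {(p : S) ^ n * γ}) => g a) h1))
  set z := η ((p : S) ^ n * γ) with hz
  obtain ⟨cc, hcc⟩ : η q ∣ z := map_dvd η (dvd_mul_of_dvd_right hqγ _)
  obtain ⟨w', hw'⟩ := exists_fix (q := η q) (Polynomial.C (cc * w) * Polynomial.X) (-w)
  simp only [Polynomial.eval_mul, Polynomial.eval_C, Polynomial.eval_X] at hw'
  have hinv : (1 + z * w) * (1 + z * w') = 1 := by
    linear_combination z * hw' + z * w * w' * hcc
  obtain ⟨y, hy⟩ := exists_root hp n (hGood.map η) w'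
  rw [← map_natCast η, ← map_pow, ← map_mul, ← hz] at hy
  set W := X * (1 + η γ * y) with hW
  have hWN : W ^ p ^ n = 1 := by
    rw [hW, mul_pow, hy, show X ^ p ^ n = 1 + z * w by rw [← hw]; ring, hinv]
  have hle : Ideal.span {(p : S) ^ n * γ} ≤ Ideal.span {γ} :=
    Ideal.span_singleton_le_span_singleton.2 (dvd_mul_left γ _)
  let ψt : A →ₐ[O] S ⧸ Ideal.span {γ} := (Ideal.Quotient.factorₐ O hle).comp ψ
  have hWt : postHom π W = toConv ψt.toLinearMap := by
    have h1 : postHom π X = toConv ψt.toLinearMap := by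
      ext a
      show Ideal.Quotient.mk _ (χ₀ a) = Ideal.Quotient.factorₐ O hle (ψ a)
      rw [show ψ a = Ideal.Quotient.mk _ (χ₀ a) from (LinearMap.congr_fun hχ₀ a).symm]
      rfl
    have h2 : postHom (C := A) π (η γ * y) = 0 := by
      ext a
      show Ideal.Quotient.mk _ ((η γ * y) a) = 0
      rw [Ideal.Quotient.eq_zero_iff_mem, Ideal.mem_span_singleton, conv_smul_apply]
      exact dvd_mul_right _ _
    rw [hW, map_mul, map_add, map_one, h1, h2, add_zero, mul_one]
  have hWt' : ∀ a, π (W a) = ψt a := fun a =>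
    congrArg (fun g : WithConv (A →ₗ[O] S ⧸ Ideal.span {γ}) => g a) hWt
  have hW1 : W 1 = 1 := by
    have h1 : W 1 ^ p ^ n = 1 := by
      rw [← show evalOne W = W 1 from rfl, ← map_pow, hWN, map_one]
    obtain ⟨y₁, hy₁⟩ : γ ∣ W 1 - 1 := Ideal.mem_span_singleton.1 (Ideal.Quotient.eq.1 ((hWt' 1).trans (map_one ψt)))
    have hx1 : W 1 = 1 + γ * y₁ := by rw [← hy₁]; ring
    rw [hx1] at h1
    rw [hx1, eq_one_of_pow hp n hGood (fun x hx => (mul_eq_zero.1 hx).resolve_left (mul_ne_zero hp0 hγ0)) y₁ h1,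
      add_zero]
  have hWmul : preHom (Bialgebra.mulCoalgHom O A) W = sqHom W := by
    set U := preHom (Bialgebra.mulCoalgHom O A) W with hU
    set T := sqHom W with hT
    have hUN : U ^ p ^ n = 1 := by rw [hU, ← map_pow, hWN, map_one]
    have hTN : T ^ p ^ n = 1 := by rw [hT, ← map_pow, hWN, map_one]
    have he1 : postHom π U = postHom π T := by
      ext a b
      show π (W (a * b)) = π (sqHom W (a ⊗ₜ b))
      rw [sqHom_apply, map_mul π, hWt', hWt', hWt', map_mul ψt]
    have hu : U * T ^ (p ^ n - 1) = 1 := by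
      refine eq_one_conv (n := n) hp hp0 he hass hγ0 hGood _ ?_ ?_
      · rw [map_mul, map_pow, he1, ← pow_succ', Nat.sub_add_cancel hN1, ← map_pow, hTN, map_one]
      · rw [mul_pow, hUN, one_mul, ← pow_mul, mul_comm, pow_mul, hTN, one_pow]
    calc U = U * T ^ (p ^ n) := by rw [hTN, mul_one]
      _ = U * T ^ (p ^ n - 1) * T := by rw [mul_assoc, ← pow_succ, Nat.sub_add_cancel hN1]
      _ = T := by rw [hu, one_mul]
  refine ⟨AlgHom.ofLinearMap W.ofConv hW1 fun a b => ?_, fun a x hx => Ideal.mem_span_singleton.1 (Ideal.Quotient.eq.1 ?_)⟩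
  · have := congrArg (fun g : WithConv (A ⊗[O] A →ₗ[O] S) => g (a ⊗ₜ b)) hWmul
    exact this.trans (sqHom_apply W a b)
  · refine (hWt' a).trans ?_
    show Ideal.Quotient.factorₐ O hle (ψ a) = _
    rw [← hx]
    rfl

end Abstract

end Groth.Agent.FontRam
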