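import Groth.Agent.FontRam.Ext
import Groth.Agent.FontRam.Killed
import Groth.Agent.FontRam.PartB

/-!
# The lifting property of finite flat group schemes killed by `p ^ n`
-/

set_option autoImplicit false
set_option linter.style.haveILetI false
set_option linter.unusedSectionVars false
set_option linter.overlappingInstances false
set_option synthInstance.maxHeartbeats 100000

open IsLocalRing

namespace Groth.Agent.FontRam

universe u

variable (O : Type u) [CommRing O] [IsDomain O] [IsDiscreteValuationRing O]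
  [IsAdicComplete (maximalIdeal O) O] [CharZero O]
  {Ω : Type u} [Field Ω] [Algebra O Ω] [FaithfulSMul O Ω]
  [Algebra (FractionRing O) Ω] [IsScalarTower O (FractionRing O) Ω] [Algebra.IsAlgebraic (FractionRing O) Ω]
  [Normal (FractionRing O) Ω]
  (E : IntermediateField (FractionRing O) Ω) [FiniteDimensional (FractionRing O) E]

/-- The two ideals of interest are principal. -/
theorem mem_idealG_iff_dvd (P : Ideal (integralClosure O E)) [P.IsMaximal] {s : ℚ} {a : integralClosure O E}
    (ha : a ≠ 0) (hv : ∀ k : ℤ, s ≤ (k : ℚ) / P.ramificationIdx O ↔ v O (incl O E a) ≤ (k : ℚ) / P.ramificationIdx O)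
    (x : integralClosure O E) : incl O E x ∈ G O s ↔ a ∣ x := by
  have ha0 : incl O E a ≠ 0 := (map_ne_zero_iff _ (incl_injective O E)).2 ha
  rcases eq_or_ne x 0 with rfl | hx
  · simp [zero_mem]
  have hx0 : incl O E x ≠ 0 := (map_ne_zero_iff _ (incl_injective O E)).2 hx
  obtain ⟨k, hk⟩ := exists_v_eq O E P (z := incl O E x) (x : E).2 hx0
  refine ⟨fun h => ?_, ?_⟩
  · have h1 : v O (incl O E a) ≤ v O (incl O E x) := by
      rw [hk, ← hv k, ← hk]
      exact v_le_of_mem O hx0 h
    have h2 := div_mem_G O ha0 (Or.inr h1 : incl O E x ∈ G O (v O (incl O E a)))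
    rw [sub_self] at h2
    obtain ⟨w, hw⟩ := exists_incl_eq O (E := E) (z := incl O E x / incl O E a)
      (div_mem (x : E).2 (a : E).2) ((mem_G_zero_iff O).1 h2)
    exact ⟨w, incl_injective O E (by rw [map_mul, hw, mul_div_cancel₀ _ ha0])⟩
  · rintro ⟨w, rfl⟩
    refine Or.inr ?_
    have h1 : v O (incl O E a) ≤ v O (incl O E (a * w)) := by
      rw [map_mul]
      exact v_le_of_mem O (mul_ne_zero ha0 fun h => hx0 (by rw [map_mul, h, mul_zero]))
        ((add_zero (v O (incl O E a))) ▸ mul_mem_G O (mem_G_self O _) (incl_mem_G_zero O E w))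
    rw [hk, ← hv k, ← hk] at h1
    exact h1

variable (p : ℕ) [Fact p.Prime] [CharP (ResidueField O) p] (eK : ℕ)
  (heK : Ideal.span {(p : O)} = maximalIdeal O ^ eK)

include heK

theorem good_pow {q : integralClosure O E} {e j : ℕ} (he : 0 < e) (hv : v O (incl O E q) = 1 / (e : ℚ))
    (hj1 : 1 ≤ j) (hj : eK * e < (p - 1) * j) : Good p q (q ^ j) := by
  intro k hk hkp
  haveI : CharZero Ω := charZero_of_injective_algebraMap (FaithfulSMul.algebraMap_injective O Ω)
  have hq0 : incl O E q ≠ 0 := fun h => by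
    rw [h, v_zero] at hv
    exact (one_div_pos.2 (by exact_mod_cast he : (0 : ℚ) < e)).ne hv
  have hp0 : (p : Ω) ≠ 0 := Nat.cast_ne_zero.2 (Fact.out : p.Prime).ne_zero
  have hC : (p.choose k : Ω) ≠ 0 := Nat.cast_ne_zero.2 (Nat.choose_pos hkp).ne'
  have hden : (p : Ω) * incl O E q ^ j * incl O E q ≠ 0 := mul_ne_zero (mul_ne_zero hp0 (pow_ne_zero _ hq0)) hq0
  have hdenv : v O ((p : Ω) * incl O E q ^ j * incl O E q) = eK + (j : ℚ) / e + 1 / e := by
    rw [v_mul O (mul_ne_zero hp0 (pow_ne_zero _ hq0)) hq0, v_mul O hp0 (pow_ne_zero _ hq0), v_p O p eK heK,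
      v_pow O hq0, hv, mul_one_div]
  have heQ : (0 : ℚ) < e := by exact_mod_cast he
  have hjQ : (1 : ℚ) ≤ j := by exact_mod_cast hj1
  have hnum : (eK : ℚ) + (j : ℚ) / e + 1 / e ≤ v O ((p.choose k : Ω) * (incl O E q ^ j) ^ k) := by
    rw [← pow_mul, v_mul O hC (pow_ne_zero _ hq0), v_pow O hq0, hv, v_natCast O p eK heK (Nat.choose_pos hkp).ne']
    push_cast
    rcases lt_or_eq_of_le hkp with hlt | rfl
    · have h1 : 1 ≤ padicValNat p (p.choose k) :=
        one_le_padicValNat_of_dvd (Nat.choose_pos hkp).ne'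
          ((Fact.out : p.Prime).dvd_choose_self (by omega) hlt)
      have h1' : (1 : ℚ) ≤ padicValNat p (p.choose k) := by exact_mod_cast h1
      have hk' : (2 : ℚ) ≤ k := by exact_mod_cast hk
      have h2 : (j : ℚ) / e + 1 / e ≤ (j : ℚ) * k * (1 / e) := by
        rw [← add_div, mul_one_div]
        exact div_le_div_of_nonneg_right (by nlinarith) heQ.le
      have := mul_le_mul_of_nonneg_left h1' (Nat.cast_nonneg eK : (0 : ℚ) ≤ eK)
      linarith
    · rw [Nat.choose_self, padicValNat_one_right, Nat.cast_zero, mul_zero, zero_add]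
      have h3 : (eK : ℚ) * e + 1 ≤ ((k : ℚ) - 1) * j := by
        rw [← Nat.cast_one, ← Nat.cast_sub (by omega : 1 ≤ k)]
        exact_mod_cast hj
      have e2 : (eK : ℚ) + (j : ℚ) / e + 1 / e = ((eK : ℚ) * e + j + 1) / e := by field_simp
      rw [e2, mul_one_div]
      exact div_le_div_of_nonneg_right (by linarith) heQ.le
  have hmem : (p.choose k : Ω) * (incl O E q ^ j) ^ k / ((p : Ω) * incl O E q ^ j * incl O E q) ∈ G O 0 := by
    have := div_mem_G O hden (Or.inr hnum : (p.choose k : Ω) * (incl O E q ^ j) ^ k ∈ G O _)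
    rwa [hdenv, sub_self] at this
  obtain ⟨d, hd⟩ := exists_incl_eq O (E := E) (z := (p.choose k : Ω) * (incl O E q ^ j) ^ k /
      ((p : Ω) * incl O E q ^ j * incl O E q))
    (div_mem (mul_mem (natCast_mem E _) (pow_mem (pow_mem (q : E).2 j) k))
      (mul_mem (mul_mem (natCast_mem E p) (pow_mem (q : E).2 j)) (q : E).2)) ((mem_G_zero_iff O).1 hmem)
  exact ⟨d, incl_injective O E (by simp only [map_mul, map_pow, map_natCast, hd]; exact (mul_div_cancel₀ _ hden).symm)⟩

variable {A : Type u} [CommRing A] [HopfAlgebra O A] [Module.Finite O A] [Module.Free O A] [Coalgebra.IsCocomm O A]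
  (n : ℕ) (hkill : SGA3b.powConv O A (p ^ n) = (Algebra.ofId O A).comp (Bialgebra.counitAlgHom O A))

include hkill

theorem liftProp_of_killed : LiftProp O A Ω ((n * eK : ℕ) : ℚ) ((eK : ℚ) / ((p : ℚ) - 1)) := by
  classical
  intro E hE t ht
  haveI := hE
  haveI := isDVR_ic O E
  haveI : CharZero Ω := charZero_of_injective_algebraMap (FaithfulSMul.algebraMap_injective O Ω)
  obtain ⟨q, hq, e, he, hass⟩ := exists_unif O E
  have hPmax : (maximalIdeal (integralClosure O E)).IsMaximal := IsLocalRing.maximalIdeal.isMaximal _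
  obtain ⟨q', hP', hq', -, hvq'⟩ := exists_gen O E (maximalIdeal (integralClosure O E))
  set e' := (maximalIdeal (integralClosure O E)).ramificationIdx O with he'
  have heq : e' = e ∧ v O (incl O E q) = 1 / (e : ℚ) := by
    obtain ⟨u, hu⟩ := IsDiscreteValuationRing.associated_of_irreducible (integralClosure O E) hq hq'
    haveI : Algebra.IsIntegral O (integralClosure O E) := IsIntegralClosure.isIntegral_algebra O E
    have hqΩ : incl O E q ≠ 0 := (map_ne_zero_iff _ (incl_injective O E)).2 hq.ne_zero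
    have hU := isU_of_isUnit O (incl O E) u.isUnit
    have hvq : v O (incl O E q) = 1 / (e' : ℚ) := by
      rw [← hvq', ← hu, map_mul, v_mul O hqΩ hU.1, v_of_isU O hU, add_zero]
    obtain ⟨u₀, hu₀⟩ := hass
    have hU0 := isU_of_isUnit O (incl O E) u₀.isUnit
    have h := congrArg (fun x => v O (incl O E x)) hu₀
    simp only [map_mul, map_pow, AlgHom.commutes] at h
    rw [v_mul O (pow_ne_zero _ hqΩ) hU0.1, v_of_isU O hU0, add_zero, v_pow O hqΩ, hvq,
      show algebraMap O Ω (unif O) = pO O Ω from rfl, v_pO] at h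
    have he'0 : (e' : ℚ) ≠ 0 := fun h0 => by rw [h0, div_zero, mul_zero] at h; exact zero_ne_one h
    have : (e' : ℚ) = e := by
      field_simp at h
      linarith
    exact ⟨by exact_mod_cast this, by rw [hvq, this]⟩
  obtain ⟨hee, hvq⟩ := heq
  have heQ : (0 : ℚ) < e := by exact_mod_cast he
  have hp1 : (0 : ℚ) < (p : ℚ) - 1 := by
    have : (2 : ℚ) ≤ p := by exact_mod_cast (Fact.out : p.Prime).two_le
    linarith
  have ht0 : 0 < t := (div_nonneg (Nat.cast_nonneg _) hp1.le).trans_lt ht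
  set j : ℕ := ⌈t * e⌉₊ with hjdef
  have hj1 : 1 ≤ j := Nat.ceil_pos.2 (mul_pos ht0 heQ)
  have hjlow : t * e ≤ j := Nat.le_ceil _
  have hj : eK * e < (p - 1) * j := by
    have h1 : (eK : ℚ) < t * ((p : ℚ) - 1) := (div_lt_iff₀ hp1).1 ht
    have h2 : (eK : ℚ) * e < ((p : ℚ) - 1) * j := by
      calc (eK : ℚ) * e < t * ((p : ℚ) - 1) * e := mul_lt_mul_of_pos_right h1 heQ
        _ = ((p : ℚ) - 1) * (t * e) := by ring
        _ ≤ _ := mul_le_mul_of_nonneg_left hjlow hp1.le
    rw [← Nat.cast_one, ← Nat.cast_sub (Fact.out : p.Prime).one_le] at h2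
    exact_mod_cast h2
  set γ := q ^ j with hγ
  have hγ0 : γ ≠ 0 := pow_ne_zero _ hq.ne_zero
  have hqΩ : incl O E q ≠ 0 := (map_ne_zero_iff _ (incl_injective O E)).2 hq.ne_zero
  have hGood : Good p q γ := good_pow O E p eK heK he hvq hj1 hj
  have hp0 : ((p : integralClosure O E)) ≠ 0 := fun h => by
    have := congrArg (incl O E) h
    rw [map_natCast, map_zero] at this
    exact (Fact.out : p.Prime).ne_zero (by exact_mod_cast this)
  have hiff_t : ∀ x, incl O E x ∈ G O t ↔ γ ∣ x := mem_idealG_iff_dvd O E (maximalIdeal _) hγ0 fun k => by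
    rw [← he', hee, hγ, map_pow, v_pow O hqΩ, hvq, mul_one_div, div_le_div_iff_of_pos_right heQ,
      le_div_iff₀ heQ]
    refine ⟨fun h => ?_, fun h => hjlow.trans h⟩
    have hk0 : (0 : ℤ) ≤ k := by
      by_contra hneg
      have : (k : ℚ) ≤ 0 := by exact_mod_cast (not_le.1 hneg).le
      nlinarith
    obtain ⟨i, rfl⟩ := Int.eq_ofNat_of_zero_le hk0
    rw [Int.cast_natCast] at h ⊢
    exact_mod_cast Nat.ceil_le.2 h
  have h2p : 2 ≤ p := (Fact.out : p.Prime).two_le
  have hass' : (maximalIdeal O).map (algebraMap O (integralClosure O E)) = Ideal.span {q ^ e} := by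
    rw [(unif_irreducible O).maximalIdeal_eq, Ideal.map_span, Set.image_singleton,
      Ideal.span_singleton_eq_span_singleton]
    exact hass.symm
  haveI := module_finite_ic O E
  refine ⟨fun χ χ' h => unique_of_killed hkill h2p hp0 he hass' hγ0 hGood χ χ' fun a =>
    (hiff_t _).1 ((mem_idealG O E).1 (h a)), fun m hm ψ => ?_⟩
  have hiff_m : ∀ x, incl O E x ∈ G O m ↔ (p : integralClosure O E) ^ n * γ ∣ x := by
    refine mem_idealG_iff_dvd O E (maximalIdeal _) (mul_ne_zero (pow_ne_zero _ hp0) hγ0) fun k => ?_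
    have hpΩ : ((p : ℕ) : Ω) ≠ 0 := Nat.cast_ne_zero.2 (Fact.out : p.Prime).ne_zero
    rw [← he', hee, hγ, map_mul, map_pow, map_pow, map_natCast,
      v_mul O (pow_ne_zero _ hpΩ) (pow_ne_zero _ hqΩ), v_pow O hpΩ, v_pow O hqΩ, hvq, v_p O p eK heK, hm,
      mul_one_div, Nat.cast_mul, ← le_sub_iff_add_le', ← le_sub_iff_add_le']
    have e2 : (k : ℚ) / e - (n : ℚ) * eK = ((k - n * eK * e : ℤ) : ℚ) / e := by push_cast; field_simp
    rw [e2, div_le_div_iff_of_pos_right heQ, le_div_iff₀ heQ]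
    refine ⟨fun h => ?_, fun h => hjlow.trans h⟩
    generalize (k - n * eK * e : ℤ) = k' at h ⊢
    have hk0 : (0 : ℤ) ≤ k' := by
      by_contra hneg
      have : (k' : ℚ) ≤ 0 := by exact_mod_cast (not_le.1 hneg).le
      nlinarith
    obtain ⟨i, rfl⟩ := Int.eq_ofNat_of_zero_le hk0
    rw [Int.cast_natCast] at h ⊢
    exact_mod_cast Nat.ceil_le.2 h
  have hEq : idealG O E m = Ideal.span {(p : integralClosure O E) ^ n * γ} := by
    ext x
    rw [mem_idealG, Ideal.mem_span_singleton, hiff_m]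
  obtain ⟨χ, hχ⟩ := exists_lift_of_killed hkill h2p hp0 he hass' hγ0 (dvd_pow_self q (by omega)) hGood
    ((Ideal.quotientEquivAlgOfEq O hEq).toAlgHom.comp ψ)
  refine ⟨χ, fun a x hx => (mem_idealG O E).2 ((hiff_t _).2 (hχ a x ?_))⟩
  show _ = Ideal.quotientEquivAlgOfEq O hEq (ψ a)
  rw [← hx]
  rfl

end Groth.Agent.FontRam
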