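import Groth.Agent.FontRam.Core
import Groth.Agent.FontRam.DP
import Groth.Agent.FontRam.Mono

/-!
# The ramification bound from Fontaine's property
-/

set_option autoImplicit false
set_option linter.style.haveILetI false
set_option linter.unusedSectionVars false
set_option linter.overlappingInstances false

open IsLocalRing Polynomial

namespace Groth.Agent.FontRam

universe u

variable (O : Type u) [CommRing O] [IsDomain O] [IsDiscreteValuationRing O]
  [IsAdicComplete (maximalIdeal O) O] [CharZero O]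
  {Ω : Type u} [Field Ω] [Algebra O Ω] [FaithfulSMul O Ω]
  [Algebra (FractionRing O) Ω] [IsScalarTower O (FractionRing O) Ω] [Algebra.IsAlgebraic (FractionRing O) Ω]
  [Normal (FractionRing O) Ω]
  (L : IntermediateField (FractionRing O) Ω) [FiniteDimensional (FractionRing O) L]

/-- Fontaine's property `P_m` for all `m > T`. -/
def FontP (T : ℚ) : Prop :=
  ∀ (E : IntermediateField (FractionRing O) Ω), FiniteDimensional (FractionRing O) E → ∀ m : ℚ, T < m →
    (integralClosure O L →ₐ[O] integralClosure O E ⧸ idealG O E m) → L ≤ E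

theorem prod_mem_G {ι : Type*} (s : Finset ι) (f : ι → Ω) (c : ι → ℚ) (h : ∀ i ∈ s, f i ∈ G O (c i)) :
    ∏ i ∈ s, f i ∈ G O (∑ i ∈ s, c i) := by
  classical
  induction s using Finset.induction with
  | empty => simpa using (mem_G_zero_iff O (Ω := Ω)).2 isIntegral_one
  | insert a s ha ih =>
    rw [Finset.prod_insert ha, Finset.sum_insert ha]
    exact mul_mem_G O (h a (Finset.mem_insert_self a s)) (ih fun i hi => h i (Finset.mem_insert_of_mem hi))

theorem le_of_aeval_mem [Module.IsTorsionFree O (integralClosure O L)] {T : ℚ} (hP : FontP O L T) {x : integralClosure O L}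
    (hx : Algebra.adjoin O ({x} : Set (integralClosure O L)) = ⊤)
    (E : IntermediateField (FractionRing O) Ω) [FiniteDimensional (FractionRing O) E]
    {Y : Ω} (hYE : Y ∈ E) (hYi : IsIntegral O Y) {m : ℚ} (hm : T < m)
    (hY : aeval Y (minpoly O x) ∈ G O m) : L ≤ E := by
  obtain ⟨y, rfl⟩ := exists_incl_eq O hYE hYi
  have h0 : aeval (Ideal.Quotient.mk (idealG O E m) y) (minpoly O x) = 0 := by
    rw [← Ideal.Quotient.mkₐ_eq_mk O, aeval_algHom_apply, Ideal.Quotient.mkₐ_eq_mk, Ideal.Quotient.eq_zero_iff_mem,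
      mem_idealG, ← aeval_algHom_apply]
    exact hY
  haveI : Algebra.IsIntegral O (integralClosure O L) := IsIntegralClosure.isIntegral_algebra O L
  have hxi : IsIntegral O x := Algebra.IsIntegral.isIntegral x
  let e : AdjoinRoot (minpoly O x) ≃ₐ[O] integralClosure O L :=
    (minpoly.equivAdjoin hxi).trans ((Subalgebra.equivOfEq _ _ hx).trans Subalgebra.topEquiv)
  exact hP E inferInstance m hm ((AdjoinRoot.liftAlgHom (minpoly O x) (Algebra.ofId O _)
    (Ideal.Quotient.mk (idealG O E m) y) (by rw [← h0, aeval_def]; rfl)).comp e.symm.toAlgHom)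

theorem sub_mem_G_of_adjoin {x : integralClosure O L}
    (hx : Algebra.adjoin O ({x} : Set (integralClosure O L)) = ⊤) (σ : L ≃ₐ[FractionRing O] L) {c : ℚ}
    (h : incl O L (autInt O L σ x) - incl O L x ∈ G O c) (z : integralClosure O L) :
    incl O L (autInt O L σ z) - incl O L z ∈ G O c := by
  have hz : z ∈ Algebra.adjoin O ({x} : Set (integralClosure O L)) := hx ▸ Algebra.mem_top
  rw [Algebra.adjoin_singleton_eq_range_aeval] at hz
  obtain ⟨g, rfl⟩ := hz
  show incl O L (autInt O L σ (aeval x g)) - incl O L (aeval x g) ∈ G O c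
  rw [← aeval_algHom_apply (autInt O L σ) x g]
  obtain ⟨w, hw⟩ := sub_dvd_eval_sub (autInt O L σ x) x (g.map (algebraMap O (integralClosure O L)))
  simp only [eval_map, ← aeval_def] at hw
  rw [← map_sub, hw, map_mul, map_sub]
  simpa using mul_mem_G O h (incl_mem_G_zero O L w)

/-- The product of the roots of a monic polynomial, valued. -/
theorem v_coeff_zero [IsAlgClosed Ω] {P : Polynomial Ω} (hP : P.Monic) {δ : ℚ}
    (h : ∀ z, P.IsRoot z → z ≠ 0 ∧ v O z = δ) : P.coeff 0 ≠ 0 ∧ v O (P.coeff 0) = P.natDegree * δ := by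
  have key : ∀ s : Multiset Ω, (∀ z ∈ s, z ≠ 0 ∧ v O z = δ) → s.prod ≠ 0 ∧ v O s.prod = s.card * δ := by
    intro s
    induction s using Multiset.induction with
    | empty => simp
    | cons a s ih =>
      intro hs
      obtain ⟨ha0, hav⟩ := hs a (Multiset.mem_cons_self a s)
      obtain ⟨h1, h2⟩ := ih fun z hz => hs z (Multiset.mem_cons_of_mem hz)
      rw [Multiset.prod_cons, Multiset.card_cons]
      refine ⟨mul_ne_zero ha0 h1, ?_⟩
      rw [v_mul O ha0 h1, hav, h2]
      push_cast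
      ring
  obtain ⟨h1, h2⟩ := key P.roots fun z hz => h z (isRoot_of_mem_roots hz)
  rw [(IsAlgClosed.splits P).coeff_zero_eq_prod_roots_of_monic hP]
  rw [IsAlgClosed.card_roots_eq_natDegree] at h2
  rcases neg_one_pow_eq_or Ω P.natDegree with h3 | h3 <;> rw [h3]
  · rw [one_mul]; exact ⟨h1, h2⟩
  · rw [neg_one_mul, v_neg]; exact ⟨neg_ne_zero.2 h1, h2⟩

section Wild

variable [IsAlgClosed Ω]

set_option maxHeartbeats 2000000 in
set_option synthInstance.maxHeartbeats 100000 in
/-- The wild case: an element of order `p` with `I ≥ 2` and `M > T` contradicts the property. -/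
theorem wild_false [Module.IsTorsionFree O (integralClosure O L)] (p : ℕ) [Fact p.Prime] [CharP (ResidueField O) p] {T : ℚ} (hP : FontP O L T)
    (θ π : integralClosure O L) (hx : Algebra.adjoin O ({θ + π} : Set (integralClosure O L)) = ⊤)
    {e : ℕ} (he : 0 < e) (hπ : v O (incl O L π) = 1 / (e : ℚ))
    (hval : ∀ z : L, (z : Ω) ≠ 0 → ∃ k : ℤ, v O (z : Ω) = k / (e : ℚ))
    (σ : L ≃ₐ[FractionRing O] L) (hord : orderOf σ = p) (hθ : autInt O L σ θ = θ)
    {I : ℕ} (hI : 2 ≤ I) (hσ : ∀ τ ∈ Subgroup.zpowers σ, τ ≠ 1 →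
      incl O L (autInt O L τ (θ + π)) - incl O L (θ + π) ≠ 0 ∧
        v O (incl O L (autInt O L τ (θ + π)) - incl O L (θ + π)) = I / (e : ℚ))
    {M : ℚ} (hM : T < M)
    (happrox : ∀ N : ℕ, 0 < N → ∀ yy : Ω, yy - incl O L π ∈ G O (((I : ℚ) - 1 / N) / e) →
      aeval (incl O L θ + yy) (minpoly O (θ + π)) ∈
        G O (M - (Fintype.card (L ≃ₐ[FractionRing O] L) : ℚ) / ((N : ℚ) * e))) : False := by
  classical
  haveI : CharZero Ω := charZero_of_injective_algebraMap (FaithfulSMul.algebraMap_injective O Ω)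
  have hp2 := (Fact.out : p.Prime).two_le
  set δ : ℚ := 1 / (e : ℚ) with hδdef
  have heQ : (0 : ℚ) < e := by exact_mod_cast he
  have hδ : 0 < δ := by positivity
  let F : IntermediateField (FractionRing O) Ω :=
    IntermediateField.lift (IntermediateField.fixedField (Subgroup.zpowers σ))
  have hF : ∀ z : L, (z : Ω) ∈ F ↔ σ z = z := fun z => by
    refine (IntermediateField.mem_lift z).trans ⟨fun h => h ⟨σ, Subgroup.mem_zpowers σ⟩, fun h => ?_⟩
    rintro ⟨τ, k, rfl⟩
    have h1 : ∀ n : ℕ, (σ ^ n) z = z := fun n => by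
      induction n with
      | zero => rfl
      | succ n ih => rw [pow_succ, AlgEquiv.mul_apply, h, ih]
    show (σ ^ k) z = z
    obtain ⟨n, rfl | rfl⟩ := k.eq_nat_or_neg
    · rw [zpow_natCast]; exact h1 n
    · rw [zpow_neg, zpow_natCast]
      conv_lhs => rw [← h1 n]
      exact (σ ^ n).symm_apply_apply z
  have hFL : ∀ z ∈ F, z ∈ L := fun z hz => IntermediateField.lift_le _ hz
  haveI : FiniteDimensional (FractionRing O) F :=
    FiniteDimensional.of_injective (V₂ := L) (IntermediateField.inclusion (fun z hz => hFL z hz)).toLinearMap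
      (IntermediateField.inclusion (fun z hz => hFL z hz)).injective
  -- the conjugates of `π`
  let G₀ := Subgroup.zpowers σ
  have hcard : Fintype.card G₀ = p := by
    rw [← Nat.card_eq_fintype_card, Nat.card_zpowers, hord]
  have hθτ : ∀ τ ∈ G₀, autInt O L τ θ = θ := by
    intro τ hτ
    refine incl_injective O L ?_
    rw [incl_autInt]
    have h0 : σ (θ : L) = (θ : L) := congrArg Subtype.val hθ
    obtain ⟨w, hw⟩ : ∃ w : L, w = (θ : L) := ⟨_, rfl⟩
    have hmem : ((θ : L) : Ω) ∈ F := (hF _).2 h0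
    exact congrArg (fun z : L => (z : Ω)) (((IntermediateField.mem_lift (θ : L)).1 hmem) ⟨τ, hτ⟩)
  let r : G₀ → Ω := fun τ => incl O L (autInt O L τ.1 π)
  have hπ0 : incl O L π ≠ 0 := fun h => by
    rw [h, v_zero] at hπ
    exact hδ.ne hπ
  have hr0 : ∀ τ, r τ ≠ 0 := fun τ => (map_ne_zero_iff _ (incl_injective O L)).2
    ((map_ne_zero_iff _ (autInt O L τ.1).injective).2 fun h => hπ0 (by rw [h, map_zero]))
  have hr : ∀ τ, v O (r τ) = δ := fun τ => by
    show v O (incl O L (autInt O L τ.1 π)) = δ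
    rw [incl_autInt, v_aut]
    exact hπ
  have hrone : r 1 = incl O L π := congrArg (fun z : integralClosure O L => incl O L z) (Subtype.ext rfl)
  have hrd : ∀ k l : G₀, k ≠ l → r k - r l ≠ 0 ∧ v O (r k - r l) = I * δ := by
    intro k l hkl
    have hτ : l.1⁻¹ * k.1 ≠ 1 := fun h => hkl (Subtype.ext (inv_mul_eq_one.1 h).symm)
    obtain ⟨h1, h2⟩ := hσ (l.1⁻¹ * k.1) (mul_mem (inv_mem l.2) k.2) hτ
    rw [map_add (autInt O L _), map_add (incl O L) (autInt O L _ θ), map_add (incl O L) θ,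
      hθτ _ (mul_mem (inv_mem l.2) k.2), add_sub_add_left_eq_sub] at h1 h2
    have e1 : ((l.1 ((l.1⁻¹ * k.1) ((π : L))) - l.1 (π : L) : L) : Ω) = r k - r l := by
      rw [← AlgEquiv.mul_apply, mul_inv_cancel_left]
      rfl
    have e2 : ((((l.1⁻¹ * k.1) (π : L)) - (π : L) : L) : Ω) =
        incl O L (autInt O L (l.1⁻¹ * k.1) π) - incl O L π := rfl
    rw [← e2] at h1 h2
    rw [← e1, ← map_sub l.1]
    refine ⟨fun h => h1 ?_, ?_⟩
    · rw [show ((l.1⁻¹ * k.1) (π : L)) - (π : L) = 0 from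
        (map_eq_zero_iff l.1 l.1.injective).1 (Subtype.ext h)]
      rfl
    · rw [v_aut, h2, hδdef, mul_one_div]
  -- `f₀`
  have hfix : ∀ i, σ (((Lagrange.nodal Finset.univ fun τ : G₀ => τ.1 (π : L)).coeff i)) =
      (Lagrange.nodal Finset.univ fun τ : G₀ => τ.1 (π : L)).coeff i := by
    intro i
    rw [← AlgEquiv.coe_ringEquiv σ, ← RingEquiv.coe_toRingHom, ← coeff_map]
    congr 1
    simp only [Lagrange.nodal, Polynomial.map_prod, Polynomial.map_sub, map_X, map_C]
    exact Fintype.prod_equiv (Equiv.mulLeft (⟨σ, Subgroup.mem_zpowers σ⟩ : G₀)) _ _ fun τ => rfl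
  have hnod : (Lagrange.nodal Finset.univ fun τ : G₀ => τ.1 (π : L)).map L.val.toRingHom =
      Lagrange.nodal Finset.univ r := by
    simp only [Lagrange.nodal, Polynomial.map_prod, Polynomial.map_sub, map_X, map_C]
    rfl
  obtain ⟨fF, hfF⟩ : ∃ fF : Polynomial F, fF.map (algebraMap F Ω) = Lagrange.nodal Finset.univ r := by
    refine (mem_lifts _).1 ((lifts_iff_coeff_lifts _).2 fun i => ?_)
    refine ⟨⟨(((Lagrange.nodal Finset.univ fun τ : G₀ => τ.1 (π : L)).coeff i : L) : Ω), (hF _).2 (hfix i)⟩, ?_⟩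
    rw [← hnod, coeff_map]
    rfl
  -- the uniformizer of `F`
  obtain ⟨πF, hπF0, hπFv⟩ : ∃ πF : F, (πF : Ω) ≠ 0 ∧ v O (πF : Ω) = p * δ := by
    refine ⟨fF.coeff 0, ?_⟩
    have h := v_coeff_zero O (P := Lagrange.nodal Finset.univ r) Lagrange.nodal_monic (δ := δ) fun z hz => by
      rw [IsRoot, Lagrange.eval_nodal, Finset.prod_eq_zero_iff] at hz
      obtain ⟨τ, -, hτ⟩ := hz
      exact (sub_eq_zero.1 hτ) ▸ ⟨hr0 τ, hr τ⟩
    rwa [← hfF, coeff_map, hfF, Lagrange.natDegree_nodal, Finset.card_univ, hcard] at h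
  have hσne : σ ≠ 1 := fun h => by
    rw [h, orderOf_one] at hord
    omega
  -- values on `F`
  have hFv : ∀ z ∈ F, z ≠ 0 → ∃ k : ℤ, v O z = k * (p * δ) := by
    intro z hz hz0
    obtain ⟨k, hk⟩ := hval ⟨z, hFL z hz⟩ hz0
    by_cases hpk : (p : ℤ) ∣ k
    · obtain ⟨c, rfl⟩ := hpk
      refine ⟨c, hk.trans ?_⟩
      rw [hδdef]
      push_cast
      ring
    exfalso
    obtain ⟨a, b, hab⟩ : ∃ a b : ℤ, a * k + b * p = 1 := by
      have h : IsCoprime (p : ℤ) k := (Nat.prime_iff_prime_int.1 (Fact.out : p.Prime)).coprime_iff_not_dvd.2 hpk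
      obtain ⟨b, a, hab⟩ := h
      exact ⟨a, b, by linarith⟩
    have vz : ∀ {w : Ω} (n : ℤ), w ≠ 0 → v O (w ^ n) = n * v O w := fun {w} n hw => by
      obtain ⟨m, rfl | rfl⟩ := n.eq_nat_or_neg
      · rw [zpow_natCast, v_pow O hw]; simp
      · rw [zpow_neg, zpow_natCast, v_inv O (pow_ne_zero _ hw), v_pow O hw]; push_cast; ring
    have hgF : z ^ a * (πF : Ω) ^ b ∈ F := mul_mem (zpow_mem hz a) (zpow_mem πF.2 b)
    have hg0 : z ^ a * (πF : Ω) ^ b ≠ 0 := mul_ne_zero (zpow_ne_zero _ hz0) (zpow_ne_zero _ hπF0)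
    have hgv : v O (z ^ a * (πF : Ω) ^ b) = δ := by
      rw [v_mul O (zpow_ne_zero _ hz0) (zpow_ne_zero _ hπF0), vz a hz0, vz b hπF0, hπFv, hk, hδdef]
      have e1 : (a : ℚ) * k + b * p = 1 := by exact_mod_cast hab
      calc _ = ((a : ℚ) * k + b * p) * (1 / e) := by ring
        _ = _ := by rw [e1, one_mul]
    obtain ⟨g, hg⟩ : ∃ g : L, (g : Ω) = z ^ a * (πF : Ω) ^ b := ⟨⟨_, hFL _ hgF⟩, rfl⟩
    have hgfix : σ g = g := (hF g).1 (hg ▸ hgF)
    have hall : ∀ n : ℕ, ∀ w : integralClosure O L,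
        incl O L (autInt O L σ w) - incl O L w ∈ G O ((n : ℚ) * δ) := by
      intro n
      induction n with
      | zero =>
        intro w
        rw [Nat.cast_zero, zero_mul]
        exact sub_mem (incl_mem_G_zero O L _) (incl_mem_G_zero O L _)
      | succ n ih =>
        intro w
        have hw : w ∈ Algebra.adjoin O ({θ + π} : Set (integralClosure O L)) := hx ▸ Algebra.mem_top
        rw [Algebra.adjoin_singleton_eq_range_aeval] at hw
        obtain ⟨q, rfl⟩ := hw
        obtain ⟨c, hc⟩ := sub_dvd_eval_sub (θ + π) θ (q.map (algebraMap O (integralClosure O L)))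
        simp only [eval_map, ← aeval_def, add_sub_cancel_left] at hc
        have hd : incl O L π * incl O L c / (g : Ω) ∈ G O 0 := by
          have := div_mem_G O (w := (g : Ω)) (hg ▸ hg0) (mul_mem_G O (Or.inr hπ.ge : incl O L π ∈ G O δ)
            (incl_mem_G_zero O L c))
          rwa [hg, hgv, add_zero, sub_self, ← hg] at this
        obtain ⟨c', hc'⟩ := exists_incl_eq O (E := L) (z := incl O L π * incl O L c / (g : Ω))
          (div_mem (mul_mem (π : L).2 (c : L).2) g.2) ((mem_G_zero_iff O).1 hd)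
        have key : incl O L (π * c) = (g : Ω) * incl O L c' := by
          rw [hc', map_mul, mul_div_cancel₀ _ (hg ▸ hg0 : (g : Ω) ≠ 0)]
        have e1 : incl O L (autInt O L σ (π * c)) = (g : Ω) * incl O L (autInt O L σ c') := by
          rw [incl_autInt, incl_autInt, show ((π * c : integralClosure O L) : L) = g * (c' : L) from
            Subtype.ext key, map_mul σ, hgfix]
          rfl
        show incl O L (autInt O L σ (aeval (θ + π) q)) - incl O L (aeval (θ + π) q) ∈ G O _
        rw [show aeval (θ + π) q = aeval θ q + π * c by rw [← hc]; ring, map_add (autInt O L σ),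
          ← aeval_algHom_apply (autInt O L σ) θ q, hθ, map_add, map_add, add_sub_add_left_eq_sub, e1, key, ← mul_sub]
        have := mul_mem_G O (hg ▸ (Or.inr hgv.ge : z ^ a * (πF : Ω) ^ b ∈ G O δ) : (g : Ω) ∈ G O δ) (ih c')
        refine G_anti O (le_of_eq ?_) this
        push_cast
        ring
    obtain ⟨h1, h2⟩ := hσ σ (Subgroup.mem_zpowers σ) hσne
    have h3 := v_le_of_mem O h1 (hall (I + 1) (θ + π))
    rw [h2, hδdef, mul_one_div, div_le_div_iff_of_pos_right heQ] at h3
    push_cast at h3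
    linarith
  -- the auxiliary field
  obtain ⟨k₁, hk₁⟩ := exists_nat_gt ((Fintype.card (L ≃ₐ[FractionRing O] L) : ℚ) / ((M - T) * e))
  set N : ℕ := p * (k₁ + 1) + 1 with hNdef
  have hN2 : 2 ≤ N := by
    have : 0 < p * (k₁ + 1) := Nat.mul_pos (by omega) (by omega)
    omega
  have hpN : ¬ p ∣ N := fun h => by
    have h1 := (Nat.dvd_add_right (dvd_mul_right p (k₁ + 1))).1 h
    exact (Fact.out : p.Prime).ne_one (Nat.dvd_one.1 h1)
  have hNpos : 0 < N := by omega
  have hNQ : (0 : ℚ) < N := by exact_mod_cast hNpos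
  obtain ⟨ρ, hρ⟩ := IsAlgClosed.exists_pow_nat_eq (πF : Ω) hNpos
  have hρ0 : ρ ≠ 0 := fun h => hπF0 (by rw [← hρ, h, zero_pow (by omega)])
  have hρv : v O ρ = (p : ℚ) / N * δ := by
    have := hπFv
    rw [← hρ, v_pow O hρ0] at this
    field_simp
    linarith
  have hρint : IsIntegral F ρ := ⟨X ^ N - C πF, monic_X_pow_sub_C _ (by omega), by simp [hρ]⟩
  let T' : IntermediateField F Ω := IntermediateField.adjoin F ({ρ} : Set Ω)
  haveI : FiniteDimensional F T' := IntermediateField.adjoin.finiteDimensional hρint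
  have hT : ∀ z : T', z ≠ 0 → ∃ k : ℤ, v O (algebraMap T' Ω z) = k * ((p : ℚ) / N) * δ := by
    intro z hz
    have hz' : (z : Ω) ∈ Algebra.adjoin F ({ρ} : Set Ω) := by
      rw [← IntermediateField.adjoin_simple_toSubalgebra_of_isAlgebraic hρint.isAlgebraic]
      exact z.2
    rw [Algebra.adjoin_singleton_eq_range_aeval] at hz'
    obtain ⟨q, hq⟩ := hz'
    have hmon : (X ^ N - C πF : Polynomial F).Monic := monic_X_pow_sub_C _ (by omega)
    have hq' : aeval ρ (q %ₘ (X ^ N - C πF)) = (z : Ω) :=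
      (aeval_modByMonic_eq_self_of_root (by simp [hρ])).trans hq
    have hdeg : (q %ₘ (X ^ N - C πF)).natDegree < N := by
      have := natDegree_modByMonic_lt q hmon (fun h => by
        have := congrArg natDegree h
        rw [natDegree_X_pow_sub_C, natDegree_one] at this
        omega)
      rwa [natDegree_X_pow_sub_C] at this
    generalize q %ₘ (X ^ N - C πF) = Q at hq' hdeg
    have hz0 : (z : Ω) ≠ 0 := fun h => hz (Subtype.ext h)
    have hterm : ∀ i, (Q.coeff i : Ω) * ρ ^ i ≠ 0 →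
        ∃ k : ℤ, v O ((Q.coeff i : Ω) * ρ ^ i) = k * ((p : ℚ) / N) * δ ∧ (N : ℤ) ∣ k - i := by
      intro i hi
      obtain ⟨k, hk⟩ := hFv _ (Q.coeff i).2 (left_ne_zero_of_mul hi)
      refine ⟨k * N + i, ?_, ⟨k, by ring⟩⟩
      rw [v_mul O (left_ne_zero_of_mul hi) (pow_ne_zero _ hρ0), hk, v_pow O hρ0, hρv]
      push_cast
      field_simp
    have hd : ∀ i ∈ Finset.range N, ∀ j ∈ Finset.range N, i ≠ j → (Q.coeff i : Ω) * ρ ^ i ≠ 0 →
        (Q.coeff j : Ω) * ρ ^ j ≠ 0 → v O ((Q.coeff i : Ω) * ρ ^ i) ≠ v O ((Q.coeff j : Ω) * ρ ^ j) := by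
      intro i hi j hj hij h1 h2 he'
      obtain ⟨k, hk, hki⟩ := hterm i h1
      obtain ⟨l, hl, hlj⟩ := hterm j h2
      rw [hk, hl] at he'
      have hkl : k = l := by
        have h' := mul_right_cancel₀ hδ.ne' he'
        have h'' := mul_right_cancel₀ (div_ne_zero (by exact_mod_cast (Fact.out : p.Prime).ne_zero) hNQ.ne') h'
        exact_mod_cast h''
      subst hkl
      rw [Finset.mem_range] at hi hj
      have hdvd : (N : ℤ) ∣ (j : ℤ) - i := by
        have := dvd_sub hki hlj
        rwa [sub_sub_sub_cancel_left] at this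
      have := Int.eq_zero_of_dvd_of_natAbs_lt_natAbs hdvd (by omega)
      omega
    have hsum : ∑ i ∈ Finset.range N, (Q.coeff i : Ω) * ρ ^ i = (z : Ω) := by
      rw [← hq', aeval_eq_sum_range' hdeg]
      rfl
    have hnz : ((Finset.range N).filter fun i => (Q.coeff i : Ω) * ρ ^ i ≠ 0).Nonempty := by
      by_contra h
      rw [Finset.not_nonempty_iff_eq_empty] at h
      refine hz0 (hsum ▸ Finset.sum_eq_zero fun i hi => by_contra fun hne => ?_)
      exact Finset.notMem_empty i (h ▸ Finset.mem_filter.2 ⟨hi, hne⟩)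
    obtain ⟨i, hi, hmin⟩ := Finset.exists_min_image _ (fun i => v O ((Q.coeff i : Ω) * ρ ^ i)) hnz
    rw [Finset.mem_filter] at hi
    obtain ⟨k, hk, -⟩ := hterm i hi.2
    refine ⟨k, ?_⟩
    show v O (z : Ω) = _
    rw [← hk]
    refine le_antisymm ?_ (v_le_of_mem O hz0 (hsum ▸ sum_mem fun j hj => ?_))
    · exact v_le_of_mem O hi.2 (mem_G_of_sum_mem O _ _ (v O (z : Ω)) hd (hsum.symm ▸ mem_G_self O (z : Ω)) i hi.1)
    · rcases eq_or_ne ((Q.coeff j : Ω) * ρ ^ j) 0 with h0 | h0
      · exact h0 ▸ zero_mem _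
      · exact Or.inr (hmin j (Finset.mem_filter.2 ⟨hj, h0⟩))
  let f₀ : Polynomial T' := fF.map (algebraMap F T')
  have hf₀ : f₀.map (algebraMap T' Ω) = Lagrange.nodal Finset.univ r := by
    rw [Polynomial.map_map, ← IsScalarTower.algebraMap_eq, hfF]
  have hf₀m : f₀.Monic := by
    rw [← monic_map_iff (f := algebraMap T' Ω), hf₀]
    exact Lagrange.nodal_monic
  have hf₀d : f₀.natDegree = p := by
    rw [← natDegree_map (algebraMap T' Ω), hf₀, Lagrange.natDegree_nodal, Finset.card_univ, hcard]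
  set t : ℕ := N * I - 1
  have hNI : 1 ≤ N * I := Nat.mul_pos hNpos (by omega)
  let β : T' := ⟨ρ ^ t, pow_mem (IntermediateField.mem_adjoin_simple_self F ρ) t⟩
  have hβ : algebraMap T' Ω β = ρ ^ t := rfl
  have hβv : v O (ρ ^ t) = p * (((I : ℚ) - 1 / N) * δ) := by
    rw [v_pow O hρ0, hρv, Nat.cast_sub hNI]
    push_cast
    field_simp
  -- a root of `f₀ - β`
  have hgm : (f₀ - C β).Monic := hf₀m.sub_of_left (by
    rw [degree_eq_natDegree hf₀m.ne_zero, hf₀d]
    exact degree_C_le.trans_lt (by exact_mod_cast (Fact.out : p.Prime).pos))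
  have hgd : (f₀ - C β).natDegree = p := by rw [natDegree_sub_C, hf₀d]
  obtain ⟨y, hy⟩ := IsAlgClosed.exists_aeval_eq_zero Ω (f₀ - C β) (by
    rw [degree_eq_natDegree hgm.ne_zero, hgd]; exact_mod_cast (Fact.out : p.Prime).ne_zero)
  have hyprod : ∏ τ, (y - r τ) = ρ ^ t := by
    have h := hy
    rw [map_sub, aeval_C, sub_eq_zero, aeval_def, ← eval_map, hf₀, Lagrange.eval_nodal, hβ] at h
    exact h
  have hyne : ∀ τ, y - r τ ≠ 0 := fun τ => Finset.prod_ne_zero_iff.1 (hyprod ▸ pow_ne_zero t hρ0) τ (Finset.mem_univ τ)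
  have hs : ∀ τ, v O (y - r τ) = ((I : ℚ) - 1 / N) * δ := by
    obtain ⟨τ₀, -, hmax⟩ := Finset.exists_max_image (Finset.univ : Finset G₀) (fun τ => v O (y - r τ))
      Finset.univ_nonempty
    have hsum : ∑ τ, v O (y - r τ) = p * (((I : ℚ) - 1 / N) * δ) := by
      rw [← v_prod O _ _ fun τ _ => hyne τ, hyprod, hβv]
    set a := v O (y - r τ₀)
    have hother : ∀ τ, τ ≠ τ₀ → min a (I * δ) ≤ v O (y - r τ) := fun τ hτ => by
      obtain ⟨h1, h2⟩ := hrd τ₀ τ hτ.symm
      have := min_le_v_add O (hyne τ₀) h1 (by rw [sub_add_sub_cancel]; exact hyne τ)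
      rwa [sub_add_sub_cancel, h2] at this
    have ha : a ≤ I * δ := by
      by_contra hlt
      have hall : ∀ τ, (I : ℚ) * δ ≤ v O (y - r τ) := fun τ => by
        rcases eq_or_ne τ τ₀ with rfl | hτ
        · exact (not_le.1 hlt).le
        · simpa [min_eq_right (not_le.1 hlt).le] using hother τ hτ
      have h1 := Finset.card_nsmul_le_sum (Finset.univ : Finset G₀) (fun τ => v O (y - r τ)) (I * δ) fun τ _ => hall τ
      rw [hsum, Finset.card_univ, hcard, nsmul_eq_mul] at h1
      have h2 : (0 : ℚ) < 1 / N := by positivity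
      have hp0 : (0 : ℚ) < p := by exact_mod_cast (Fact.out : p.Prime).pos
      have := mul_pos (mul_pos hp0 h2) hδ
      linarith
    have hall : ∀ τ, v O (y - r τ) = a := fun τ => by
      rcases eq_or_ne τ τ₀ with rfl | hτ
      · rfl
      · exact le_antisymm (hmax τ (Finset.mem_univ τ)) (by simpa [min_eq_left ha] using hother τ hτ)
    intro τ
    rw [hall τ]
    rw [Finset.sum_congr rfl (fun τ _ => hall τ), Finset.sum_const, Finset.card_univ, hcard, nsmul_eq_mul] at hsum
    exact mul_left_cancel₀ (by exact_mod_cast (Fact.out : p.Prime).ne_zero) hsum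
  have hy1 : y - incl O L π ∈ G O (((I : ℚ) - 1 / N) / e) := by
    rw [← hrone]
    exact Or.inr (le_of_eq (by rw [hs, hδdef, mul_one_div]))
  have hyint : IsIntegral O (incl O L θ + y) := by
    have h0 : (0 : ℚ) ≤ ((I : ℚ) - 1 / N) / e := by
      refine div_nonneg (sub_nonneg.2 ((div_le_one hNQ).2 ?_ |>.trans ?_)) heQ.le
      · exact_mod_cast (show 1 ≤ N by omega)
      · exact_mod_cast (show 1 ≤ I by omega)
    have := (mem_G_zero_iff O).1 (G_anti O h0 hy1)
    have h := ((isIntegral_incl O L θ).add (isIntegral_incl O L π)).add this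
    rwa [show incl O L θ + incl O L π + (y - incl O L π) = incl O L θ + y by ring] at h
  -- the field generated by `ρ` and `y`
  have hyint' : IsIntegral T' y := ⟨f₀ - C β, hgm, by rw [← aeval_def]; exact hy⟩
  let E₁ : IntermediateField T' Ω := IntermediateField.adjoin T' ({y} : Set Ω)
  haveI : FiniteDimensional T' E₁ := IntermediateField.adjoin.finiteDimensional hyint'
  haveI : IsScalarTower (FractionRing O) T' Ω := IsScalarTower.of_algebraMap_eq fun x => rfl
  let E : IntermediateField (FractionRing O) Ω := E₁.restrictScalars (FractionRing O)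
  haveI : Module.Finite (FractionRing O) T' := Module.Finite.trans F T'
  haveI : FiniteDimensional (FractionRing O) E :=
    show Module.Finite (FractionRing O) E₁ from Module.Finite.trans T' E₁
  have hθE : incl O L θ + y ∈ E := by
    refine add_mem ?_ (IntermediateField.mem_adjoin_simple_self T' y)
    have hθF : ((θ : L) : Ω) ∈ F := (hF _).2 (congrArg Subtype.val hθ)
    exact E₁.algebraMap_mem (algebraMap F T' ⟨_, hθF⟩)
  have hm : T < M - (Fintype.card (L ≃ₐ[FractionRing O] L) : ℚ) / ((N : ℚ) * e) := by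
    rw [lt_sub_iff_add_lt, ← lt_sub_iff_add_lt', div_lt_iff₀ (by positivity)]
    rw [div_lt_iff₀ (mul_pos (by linarith) heQ)] at hk₁
    have : (k₁ : ℚ) ≤ N := by
      rw [hNdef]
      exact_mod_cast (show k₁ ≤ p * (k₁ + 1) + 1 by
        have := Nat.le_mul_of_pos_left (k₁ + 1) (Fact.out : p.Prime).pos
        omega)
    calc _ < (k₁ : ℚ) * ((M - T) * e) := hk₁
      _ ≤ N * ((M - T) * e) := mul_le_mul_of_nonneg_right this (mul_pos (by linarith) heQ).le
      _ = _ := by ring
  have hLE := le_of_aeval_mem O L hP hx E hθE hyint hm (happrox N hNpos y hy1)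
  -- `y` is a polynomial in `π`
  set π' := incl O L π
  have hπE : π' ∈ E₁ := hLE (π : L).2
  have hπT : IsIntegral T' π' := ⟨f₀, hf₀m, by
    rw [← eval_map, hf₀, Lagrange.eval_nodal, Finset.prod_eq_zero (Finset.mem_univ (1 : G₀))]
    rw [hrone, sub_self]⟩
  have hroot0 : ∀ τ, aeval (r τ) f₀ = 0 := fun τ => by
    rw [aeval_def, ← eval_map, hf₀, Lagrange.eval_nodal_at_node (Finset.mem_univ τ)]
  have hdvd : minpoly T' π' ∣ f₀ := minpoly.dvd T' π' (hrone ▸ hroot0 1)
  have hmp : (minpoly T' π').natDegree = p := by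
    refine le_antisymm ((natDegree_le_of_dvd hdvd hf₀m.ne_zero).trans hf₀d.le) ?_
    have h := v_coeff_zero O (P := (minpoly T' π').map (algebraMap T' Ω)) ((minpoly.monic hπT).map _) (δ := δ)
      fun z hz => by
        have hz' := hz.dvd (Polynomial.map_dvd (algebraMap T' Ω) hdvd)
        rw [hf₀, IsRoot, Lagrange.eval_nodal, Finset.prod_eq_zero_iff] at hz'
        obtain ⟨τ, -, hτ⟩ := hz'
        exact (sub_eq_zero.1 hτ) ▸ ⟨hr0 τ, hr τ⟩
    rw [coeff_map, natDegree_map] at h
    obtain ⟨k, hk⟩ := hT ((minpoly T' π').coeff 0) (fun h0 => h.1 (by rw [h0, map_zero]))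
    rw [h.2] at hk
    have e1 : ((minpoly T' π').natDegree : ℚ) * N = k * p := by
      have := mul_right_cancel₀ hδ.ne' hk
      rw [this]
      field_simp
    have e2 : ((minpoly T' π').natDegree * N : ℤ) = k * p := by exact_mod_cast e1
    have hd : (p : ℤ) ∣ ((minpoly T' π').natDegree : ℤ) * N := ⟨k, by rw [e2, mul_comm]⟩
    rcases (Nat.prime_iff_prime_int.1 (Fact.out : p.Prime)).dvd_or_dvd hd with h1 | h1
    · exact Nat.le_of_dvd (minpoly.natDegree_pos hπT) (by exact_mod_cast h1)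
    · exact absurd (by exact_mod_cast h1) hpN
  have hmeq : minpoly T' π' = f₀ :=
    eq_of_monic_of_associated (minpoly.monic hπT) hf₀m
      (associated_of_dvd_of_natDegree_le hdvd hf₀m.ne_zero (hf₀d.le.trans hmp.ge))
  have hE₁ : IntermediateField.adjoin T' ({π'} : Set Ω) = E₁ := by
    refine IntermediateField.eq_of_le_of_finrank_le
      (IntermediateField.adjoin_le_iff.2 (Set.singleton_subset_iff.2 hπE)) ?_
    rw [IntermediateField.adjoin.finrank hπT, IntermediateField.adjoin.finrank hyint', hmp]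
    exact (natDegree_le_of_dvd (minpoly.dvd T' y hy) hgm.ne_zero).trans hgd.le
  have hyQ : y ∈ Algebra.adjoin T' ({π'} : Set Ω) := by
    rw [← IntermediateField.adjoin_simple_toSubalgebra_of_isAlgebraic hπT.isAlgebraic, IntermediateField.mem_toSubalgebra, hE₁]
    exact IntermediateField.mem_adjoin_simple_self T' y
  rw [Algebra.adjoin_singleton_eq_range_aeval] at hyQ
  obtain ⟨Q₀, hQ₀⟩ := hyQ
  have hQ₀' : aeval π' (Q₀ %ₘ f₀) = y := (aeval_modByMonic_eq_self_of_root (hrone ▸ hroot0 1)).trans hQ₀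
  have hQd : (Q₀ %ₘ f₀).natDegree < p := hf₀d ▸ natDegree_modByMonic_lt _ hf₀m fun h => by
    rw [h, natDegree_one] at hf₀d
    exact (Fact.out : p.Prime).ne_zero hf₀d.symm
  generalize Q₀ %ₘ f₀ = Q at hQ₀' hQd
  have hroots : ∀ τ, aeval (aeval (r τ) Q) f₀ = algebraMap T' Ω β := fun τ => by
    have h : minpoly T' π' ∣ (f₀ - C β).comp Q := minpoly.dvd T' π' (by rw [aeval_comp, hQ₀', hy])
    obtain ⟨c, hc⟩ := h
    have h2 := congrArg (aeval (r τ)) hc
    rw [map_mul, hmeq, hroot0, zero_mul, aeval_comp, map_sub, aeval_C, sub_eq_zero] at h2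
    exact h2
  refine core_false O (T := T') hT hδ hN2 hpN hcard (fun n hn hnp => ?_) hI hr0 hr hrd hf₀ β Q hQd hroots 1 ?_ ?_
  · have hu : IsUnit (n : O) := by
      by_contra h
      have h' : residue O (n : O) = 0 := (residue_eq_zero_iff _).2 h
      rw [map_natCast, CharP.cast_eq_zero_iff (ResidueField O) p] at h'
      exact absurd (Nat.le_of_dvd (Nat.pos_of_ne_zero hn) h') (by omega)
    haveI : Algebra.IsIntegral O O := Algebra.IsIntegral.of_finite O O
    simpa using v_of_isU O (isU_of_isUnit O (Algebra.ofId O Ω) hu)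
  · rw [hrone, hQ₀', ← hrone]; exact hyne 1
  · rw [hrone, hQ₀', ← hrone]; exact hs 1

end Wild

end Groth.Agent.FontRam
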