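import Mathlib

/-!
# `p`-power roots of elements close to one
-/

set_option autoImplicit false
set_option linter.style.haveILetI false
set_option linter.unusedSectionVars false

open Finset Polynomial

namespace Groth.Agent.FontRam

variable {R : Type*} [CommRing R] (p : ℕ) (q : R)

/-- `g` is small enough for the binomial series to be dominated by its linear term. -/
def Good (g : R) : Prop := ∀ k, 2 ≤ k → k ≤ p → ∃ d : R, (p.choose k : R) * g ^ k = (p : R) * g * q * d

variable {p q}

theorem Good.mul {g : R} (h : Good p q g) (r : R) : Good p q (g * r) := by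
  intro k hk hkp
  obtain ⟨d, hd⟩ := h k hk hkp
  obtain ⟨i, rfl⟩ : ∃ i, k = i + 1 := ⟨k - 1, by omega⟩
  refine ⟨d * r ^ i, ?_⟩
  rw [mul_pow, ← mul_assoc, hd, pow_succ]
  ring

theorem Good.map {R' : Type*} [CommRing R'] (φ : R →+* R') {g : R} (h : Good p q g) :
    Good p (φ q) (φ g) := by
  intro k hk hkp
  obtain ⟨d, hd⟩ := h k hk hkp
  exact ⟨φ d, by simpa using congrArg φ hd⟩

theorem exists_expansion (hp : 2 ≤ p) {g : R} (h : Good p q g) :
    ∃ D : R[X], D.eval 0 = 0 ∧ ∀ y, (1 + g * y) ^ p = 1 + (p : R) * g * (y + q * D.eval y) := by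
  classical
  choose! d hd using h
  refine ⟨∑ k ∈ Icc 2 p, C (d k) * X ^ k, ?_, fun y => ?_⟩
  · rw [eval_finsetSum]
    refine sum_eq_zero fun k hk => ?_
    rw [eval_mul, eval_pow, eval_X, zero_pow (by simp only [mem_Icc] at hk; omega), mul_zero]
  · have h1 : ∀ k ∈ Icc 2 p, (p : R) * g * (q * (d k * y ^ k)) = (g * y) ^ k * 1 ^ (p - k) * (p.choose k : R) := by
      intro k hk
      simp only [mem_Icc] at hk
      rw [one_pow, mul_one, mul_pow, mul_comm (g ^ k * y ^ k), ← mul_assoc (p.choose k : R), hd k hk.1 hk.2]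
      ring
    have hsplit : Finset.range (p + 1) = insert 0 (insert 1 (Icc 2 p)) := by
      ext k
      simp only [mem_range, mem_insert, mem_Icc]
      omega
    rw [add_comm (1 : R) (g * y), add_pow, hsplit, sum_insert (by simp), sum_insert (by simp),
      mul_add, eval_finsetSum, mul_sum, mul_sum]
    simp only [eval_mul, eval_C, eval_pow, eval_X]
    rw [sum_congr rfl h1]
    simp only [pow_zero, pow_one, one_pow, Nat.choose_zero_right, Nat.choose_one_right, Nat.cast_one]
    ring

variable [IsAdicComplete (Ideal.span ({q} : Set R)) R]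

theorem mem_smul_top_iff {n : ℕ} {x : R} :
    x ∈ (Ideal.span ({q} : Set R) ^ n • ⊤ : Submodule R R) ↔ q ^ n ∣ x := by
  rw [smul_eq_mul, Ideal.mul_top, Ideal.span_singleton_pow, Ideal.mem_span_singleton]

theorem exists_fix (D : R[X]) (w : R) : ∃ y, y + q * D.eval y = w := by
  let s : ℕ → R := fun n => (fun y => w - q * D.eval y)^[n] w
  have hs : ∀ n, s (n + 1) = w - q * D.eval (s n) := fun n => Function.iterate_succ_apply' _ n w
  have hstep : ∀ n, q ^ (n + 1) ∣ s (n + 1) - s n := by
    intro n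
    induction n with
    | zero =>
      rw [hs, show s 0 = w from rfl, pow_one, sub_sub_cancel_left]
      exact (dvd_mul_right q _).neg_right
    | succ n ih =>
      rw [hs (n + 1), hs n, sub_sub_sub_cancel_left, ← mul_sub, pow_succ' q (n + 1)]
      refine mul_dvd_mul_left q (ih.trans ?_)
      rw [← dvd_neg, neg_sub, ← hs n]
      exact sub_dvd_eval_sub _ _ D
  have hle : ∀ m n, m ≤ n → q ^ (m + 1) ∣ s n - s m := by
    intro m n hmn
    induction n, hmn using Nat.le_induction with
    | base => simp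
    | succ n hmn ih =>
      have := dvd_add ((pow_dvd_pow q (Nat.succ_le_succ hmn)).trans (hstep n)) ih
      rwa [sub_add_sub_cancel] at this
  obtain ⟨L, hL⟩ := IsPrecomplete.prec (I := Ideal.span ({q} : Set R)) inferInstance (f := s) fun {m n} hmn => by
    rw [SModEq.sub_mem, mem_smul_top_iff, ← dvd_neg, neg_sub]
    exact (pow_dvd_pow q (Nat.le_succ m)).trans (hle m n hmn)
  refine ⟨L, sub_eq_zero.1 (IsHausdorff.haus (I := Ideal.span ({q} : Set R)) inferInstance _ fun n => ?_)⟩
  rw [SModEq.zero, mem_smul_top_iff]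
  have hLn : ∀ k, q ^ k ∣ L - s k := fun k => by
    have := hL k
    rw [SModEq.sub_mem, mem_smul_top_iff] at this
    rwa [← dvd_neg, neg_sub]
  have e : L + q * D.eval L - w = (L - s (n + 1)) + q * (D.eval L - D.eval (s n)) := by rw [hs]; ring
  rw [e]
  exact dvd_add ((pow_dvd_pow q (Nat.le_succ n)).trans (hLn (n + 1)))
    (dvd_mul_of_dvd_right ((hLn n).trans (sub_dvd_eval_sub _ _ D)) q)

theorem fix_unique {D : R[X]} (hD : D.eval 0 = 0) {y : R} (h : y + q * D.eval y = 0) : y = 0 := by
  have hdvd : ∀ n, q ^ n ∣ y := by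
    intro n
    induction n with
    | zero => rw [pow_zero]; exact one_dvd _
    | succ n ih =>
      rw [eq_neg_of_add_eq_zero_left h, dvd_neg, pow_succ']
      refine mul_dvd_mul_left q (ih.trans ?_)
      have := sub_dvd_eval_sub y 0 D
      rwa [sub_zero, hD, sub_zero] at this
  exact IsHausdorff.haus (I := Ideal.span ({q} : Set R)) inferInstance _ fun n => by
    rw [SModEq.zero, mem_smul_top_iff]
    exact hdvd n

/-- Existence of `p ^ n`-th roots. -/
theorem exists_root (hp : 2 ≤ p) : ∀ (n : ℕ) {g : R}, Good p q g → ∀ w : R,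
    ∃ y, (1 + g * y) ^ (p ^ n) = 1 + (p : R) ^ n * g * w
  | 0, g, _, w => ⟨w, by simp⟩
  | n + 1, g, hg, w => by
    have hg' : Good p q ((p : R) ^ n * g) := by rw [mul_comm]; exact hg.mul _
    obtain ⟨D, -, hD⟩ := exists_expansion hp hg'
    obtain ⟨y', hy'⟩ := exists_fix (q := q) D w
    obtain ⟨y, hy⟩ := exists_root hp n hg y'
    refine ⟨y, ?_⟩
    rw [pow_succ, pow_mul, hy, hD, hy', pow_succ]
    ring

/-- No torsion close to one. -/
theorem eq_one_of_pow (hp : 2 ≤ p) : ∀ (n : ℕ) {g : R}, Good p q g → (∀ x, (p : R) * g * x = 0 → x = 0) →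
    ∀ y, (1 + g * y) ^ (p ^ n) = 1 → g * y = 0
  | 0, g, _, _, y, h => by simpa using h
  | n + 1, g, hg, hreg, y, h => by
    obtain ⟨D, hD0, hD⟩ := exists_expansion hp hg
    rw [pow_succ', pow_mul, hD, mul_comm (p : R) g, mul_assoc] at h
    have := eq_one_of_pow hp n hg hreg _ h
    rw [← mul_assoc, mul_comm g (p : R)] at this
    rw [fix_unique hD0 (hreg _ this), mul_zero]

end Groth.Agent.FontRam
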