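import Groth.Agent.NeronComp.ValExt
import Mathlib

/-!
# The rational valuation of an algebraic extension of a complete discretely valued field
-/

set_option autoImplicit false
set_option linter.style.haveILetI false
set_option linter.unusedSectionVars false

open IsLocalRing

namespace Groth.Agent.FontRam

universe u

section Defs

variable (O : Type u) [CommRing O] [IsDomain O] [IsDiscreteValuationRing O]
  (Ω : Type u) [Field Ω] [Algebra O Ω]

/-- A chosen uniformizer of `O`. -/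
noncomputable def unif : O := (IsDiscreteValuationRing.exists_irreducible O).choose

theorem unif_irreducible : Irreducible (unif O) := (IsDiscreteValuationRing.exists_irreducible O).choose_spec

/-- The image of the uniformizer. -/
noncomputable def pO : Ω := algebraMap O Ω (unif O)

variable {Ω}

/-- `x` is a unit of the integral closure of `O`. -/
def IsU (x : Ω) : Prop := x ≠ 0 ∧ IsIntegral O x ∧ IsIntegral O x⁻¹

/-- `z ^ n` is a unit times the `k`-th power of the uniformizer, for `(n, k)`. -/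
def Spec (z : Ω) (nk : ℕ × ℤ) : Prop := 0 < nk.1 ∧ IsU O (z ^ nk.1 / pO O Ω ^ nk.2)

open Classical in
/-- The valuation, normalised by `v (uniformizer) = 1`; junk value `0` at `0`. -/
noncomputable def v (z : Ω) : ℚ :=
  if h : ∃ nk, Spec O z nk then (h.choose.2 : ℚ) / h.choose.1 else 0

theorem IsU.one : IsU O (1 : Ω) := ⟨one_ne_zero, isIntegral_one, by rw [inv_one]; exact isIntegral_one⟩

theorem IsU.mul {x y : Ω} (hx : IsU O x) (hy : IsU O y) : IsU O (x * y) :=
  ⟨mul_ne_zero hx.1 hy.1, hx.2.1.mul hy.2.1, by rw [mul_inv]; exact hx.2.2.mul hy.2.2⟩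

theorem IsU.inv {x : Ω} (hx : IsU O x) : IsU O x⁻¹ :=
  ⟨inv_ne_zero hx.1, hx.2.2, by rw [inv_inv]; exact hx.2.1⟩

theorem IsU.pow {x : Ω} (hx : IsU O x) (n : ℕ) : IsU O (x ^ n) :=
  ⟨pow_ne_zero _ hx.1, hx.2.1.pow n, by rw [← inv_pow]; exact hx.2.2.pow n⟩

theorem IsU.zpow {x : Ω} (hx : IsU O x) : ∀ n : ℤ, IsU O (x ^ n)
  | (n : ℕ) => by rw [zpow_natCast]; exact hx.pow O n
  | Int.negSucc n => by rw [zpow_negSucc]; exact (hx.pow O (n + 1)).inv O

theorem isU_of_isUnit {B : Type u} [CommRing B] [Algebra O B] [Algebra.IsIntegral O B] (φ : B →ₐ[O] Ω)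
    {x : B} (hx : IsUnit x) : IsU O (φ x) := by
  obtain ⟨y, hy⟩ := isUnit_iff_exists_inv.1 hx
  have h : φ x * φ y = 1 := by rw [← map_mul, hy, map_one]
  refine ⟨left_ne_zero_of_mul_eq_one h, (Algebra.IsIntegral.isIntegral x).map φ, ?_⟩
  rw [inv_eq_of_mul_eq_one_right h]
  exact (Algebra.IsIntegral.isIntegral y).map φ

variable [FaithfulSMul O Ω]

theorem pO_ne_zero : pO O Ω ≠ 0 :=
  (map_ne_zero_iff _ (FaithfulSMul.algebraMap_injective O Ω)).2 (unif_irreducible O).ne_zero

theorem pO_inv_not_integral : ¬ IsIntegral O (pO O Ω)⁻¹ := by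
  intro h
  let f : FractionRing O →ₐ[O] Ω := IsFractionRing.liftAlgHom (g := Algebra.ofId O Ω) (FaithfulSMul.algebraMap_injective O Ω)
  have h' : IsIntegral O ((algebraMap O (FractionRing O) (unif O))⁻¹) := by
    refine (isIntegral_algHom_iff f f.toRingHom.injective).1 ?_
    rwa [map_inv₀, AlgHom.commutes]
  obtain ⟨w, hw⟩ := IsIntegrallyClosed.isIntegral_iff.1 h'
  refine (unif_irreducible O).not_isUnit (IsUnit.of_mul_eq_one w (IsFractionRing.injective O (FractionRing O) ?_))
  rw [map_mul, hw, map_one, mul_inv_cancel₀]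
  exact (map_ne_zero_iff _ (IsFractionRing.injective O _)).2 (unif_irreducible O).ne_zero

theorem isIntegral_pO : IsIntegral O (pO O Ω) := isIntegral_algebraMap

theorem nonneg_of_isIntegral_zpow {k : ℤ} (h : IsIntegral O (pO O Ω ^ k)) : 0 ≤ k := by
  by_contra hk
  obtain ⟨n, rfl⟩ : ∃ n : ℕ, k = -((n : ℤ) + 1) := ⟨(-k - 1).toNat, by omega⟩
  refine pO_inv_not_integral O (Ω := Ω) ?_
  have h2 := h.mul ((isIntegral_pO O (Ω := Ω)).pow n)
  rwa [← zpow_natCast, ← zpow_add₀ (pO_ne_zero O), show -((n : ℤ) + 1) + (n : ℤ) = -1 by ring, zpow_neg_one] at h2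

theorem eq_zero_of_isU_zpow {k : ℤ} (h : IsU O (pO O Ω ^ k)) : k = 0 := by
  refine le_antisymm ?_ (nonneg_of_isIntegral_zpow O h.2.1)
  have := nonneg_of_isIntegral_zpow O (Ω := Ω) (k := -k) (by rw [zpow_neg]; exact h.2.2)
  omega

theorem v_eq {z : Ω} {n : ℕ} {k : ℤ} (hn : 0 < n) (h : IsU O (z ^ n / pO O Ω ^ k)) : v O z = (k : ℚ) / n := by
  have hex : ∃ nk, Spec O z nk := ⟨(n, k), hn, h⟩
  unfold v
  rw [dif_pos hex]
  obtain ⟨hm, hml⟩ := hex.choose_spec
  generalize hex.choose.1 = m at hm hml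
  generalize hex.choose.2 = l at hml
  have hp := pO_ne_zero O (Ω := Ω)
  have h1 := (h.pow O m).mul O ((hml.pow O n).inv O)
  have hz : z ≠ 0 := by
    rintro rfl
    exact h.1 (by rw [zero_pow hn.ne', zero_div])
  have e : (z ^ n / pO O Ω ^ k) ^ m * ((z ^ m / pO O Ω ^ l) ^ n)⁻¹ = pO O Ω ^ (l * n - k * m) := by
    rw [div_pow, div_pow, ← pow_mul, ← pow_mul, ← zpow_natCast (pO O Ω ^ k), ← zpow_natCast (pO O Ω ^ l),
      ← zpow_mul, ← zpow_mul, zpow_sub₀ hp, mul_comm m n]
    field_simp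
  rw [e] at h1
  have := eq_zero_of_isU_zpow O h1
  rw [div_eq_div_iff (by exact_mod_cast hm.ne') (by exact_mod_cast hn.ne')]
  exact_mod_cast sub_eq_zero.1 this

end Defs

section Facts

variable (O : Type u) [CommRing O] [IsDomain O] [IsDiscreteValuationRing O]
  [IsAdicComplete (maximalIdeal O) O] [CharZero O]
  {K : Type u} [Field K] [Algebra O K] [IsFractionRing O K]
  {Ω : Type u} [Field Ω] [Algebra K Ω] [Algebra O Ω] [IsScalarTower O K Ω] [Algebra.IsAlgebraic K Ω]
  [FaithfulSMul O Ω]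

theorem isLocalRing_ic (L : Type u) [Field L] [Algebra O L] : IsLocalRing (integralClosure O L) := by
  haveI : HenselianLocalRing O := HenselianLocalRing.mk fun f hf a₀ h₁ h₂ =>
    HenselianRing.is_henselian (I := maximalIdeal O) f hf a₀ h₁
      (h₂.map (Ideal.Quotient.mk (maximalIdeal O)))
  exact NeronComp.ValExt.isLocalRing_integralClosure' O L

theorem isDVR_ic (L : Type u) [Field L] [Algebra O L] [Algebra (FractionRing O) L]
    [IsScalarTower O (FractionRing O) L] [FiniteDimensional (FractionRing O) L] :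
    IsDiscreteValuationRing (integralClosure O L) := by
  haveI := isLocalRing_ic O L
  haveI : CharZero (FractionRing O) := inferInstance
  haveI : IsDedekindDomain (integralClosure O L) := IsIntegralClosure.isDedekindDomain O (FractionRing O) L _
  have hf : ¬ IsField (integralClosure O L) := fun h => IsDiscreteValuationRing.not_isField O
    (isField_of_isIntegral_of_isField
      (fun a b hab => by
        have h2 : algebraMap O L a = algebraMap O L b := congrArg Subtype.val hab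
        rw [IsScalarTower.algebraMap_apply O (FractionRing O) L, IsScalarTower.algebraMap_apply O (FractionRing O) L] at h2
        exact IsFractionRing.injective O (FractionRing O) ((algebraMap (FractionRing O) L).injective h2)) h)
  exact (((IsDiscreteValuationRing.TFAE (integralClosure O L) hf).out 0 2) :
    IsDiscreteValuationRing (integralClosure O L) ↔ IsDedekindDomain (integralClosure O L)).mpr inferInstance

/-- The uniformizer of `O` in a finite extension. -/
theorem exists_unif (L : Type u) [Field L] [Algebra O L] [Algebra (FractionRing O) L]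
    [IsScalarTower O (FractionRing O) L] [FiniteDimensional (FractionRing O) L] :
    ∃ q : integralClosure O L, Irreducible q ∧ ∃ e : ℕ, 0 < e ∧
      Associated (q ^ e) (algebraMap O (integralClosure O L) (unif O)) := by
  haveI := isDVR_ic O L
  obtain ⟨q, hq⟩ := IsDiscreteValuationRing.exists_irreducible (integralClosure O L)
  have h0 : algebraMap O (integralClosure O L) (unif O) ≠ 0 := fun h => by
    have h2 : algebraMap O L (unif O) = 0 := congrArg Subtype.val h
    rw [IsScalarTower.algebraMap_apply O (FractionRing O) L] at h2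
    replace h2 := (map_eq_zero_iff _ (IsFractionRing.injective O (FractionRing O))).1
      ((map_eq_zero_iff _ (algebraMap (FractionRing O) L).injective).1 h2)
    exact (unif_irreducible O).ne_zero h2
  obtain ⟨e, he⟩ := IsDiscreteValuationRing.associated_pow_irreducible h0 hq
  refine ⟨q, hq, e, Nat.pos_of_ne_zero fun h => ?_, he.symm⟩
  subst h
  rw [pow_zero, associated_one_iff_isUnit] at he
  haveI : FaithfulSMul O L := (faithfulSMul_iff_algebraMap_injective O L).2 (by
    rw [IsScalarTower.algebraMap_eq O (FractionRing O) L]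
    exact (algebraMap (FractionRing O) L).injective.comp (IsFractionRing.injective O _))
  exact pO_inv_not_integral O (isU_of_isUnit O (integralClosure O L).val he).2.2

variable [Algebra (FractionRing O) Ω] [IsScalarTower O (FractionRing O) Ω]
  [Algebra.IsAlgebraic (FractionRing O) Ω]

theorem key_identity {F : Type*} [Field F] (q u w x : F) (hq : q ≠ 0) (hu : u ≠ 0) (hw : w ≠ 0) (hx : x ≠ 0)
    {i j e : ℕ} : (q ^ i / u / (q ^ j / w)) ^ e / (q ^ e * x) ^ ((i : ℤ) - j) =
      (w * u⁻¹) ^ e * (x ^ ((i : ℤ) - j))⁻¹ := by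
  rw [mul_zpow, zpow_sub₀ (pow_ne_zero e hq), zpow_natCast, zpow_natCast, ← pow_mul, ← pow_mul, div_pow, div_pow,
    div_pow, ← pow_mul, ← pow_mul, mul_comm e i, mul_comm e j, mul_pow, inv_pow]
  field_simp

theorem exists_spec {z : Ω} (hz : z ≠ 0) : ∃ n : ℕ, 0 < n ∧ ∃ k : ℤ, IsU O (z ^ n / pO O Ω ^ k) := by
  let E := IntermediateField.adjoin (FractionRing O) ({z} : Set Ω)
  haveI : FiniteDimensional (FractionRing O) E :=
    IntermediateField.adjoin.finiteDimensional (Algebra.IsIntegral.isIntegral z)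
  haveI := isDVR_ic O E
  obtain ⟨q, hq, e, he, u₀, hu₀⟩ := exists_unif O E
  have hq0 : ((q : E) : Ω) ≠ 0 := fun h => hq.ne_zero (Subtype.ext (Subtype.ext h))
  let φ : integralClosure O E →ₐ[O] Ω := (E.val.restrictScalars O).comp (integralClosure O E).val
  haveI : IsFractionRing (integralClosure O E) E :=
    IsIntegralClosure.isFractionRing_of_finite_extension O (FractionRing O) E _
  obtain ⟨a, b, hb, hab⟩ := IsFractionRing.div_surjective (integralClosure O E)
    (⟨z, IntermediateField.mem_adjoin_simple_self _ z⟩ : E)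
  have ha0 : a ≠ 0 := by
    rintro rfl
    rw [map_zero, zero_div] at hab
    exact hz (congrArg Subtype.val hab).symm
  obtain ⟨i, ui, hi⟩ := IsDiscreteValuationRing.associated_pow_irreducible ha0 hq
  obtain ⟨j, uj, hj⟩ := IsDiscreteValuationRing.associated_pow_irreducible (nonZeroDivisors.ne_zero hb) hq
  refine ⟨e, he, (i : ℤ) - j, ?_⟩
  have h1 : IsU O (φ ui) := isU_of_isUnit O φ ui.isUnit
  have h2 : IsU O (φ uj) := isU_of_isUnit O φ uj.isUnit
  have h3 : IsU O (φ u₀) := isU_of_isUnit O φ u₀.isUnit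
  have hz' : z = φ a / φ b := by
    have := congrArg Subtype.val hab
    simpa [φ] using this.symm
  have hA : φ a * φ ui = φ q ^ i := by rw [← map_mul, hi, map_pow]
  have hB : φ b * φ uj = φ q ^ j := by rw [← map_mul, hj, map_pow]
  have hP : φ q ^ e * φ u₀ = pO O Ω := by rw [← map_pow, ← map_mul, hu₀, φ.commutes]; rfl
  rw [hz', eq_div_iff h1.1 |>.2 hA, eq_div_iff h2.1 |>.2 hB, ← hP, key_identity _ _ _ _ (show φ q ≠ 0 from hq0) h1.1 h2.1 h3.1]
  exact ((h2.mul O (h1.inv O)).pow O e).mul O ((h3.zpow O _).inv O)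

theorem v_mul {z w : Ω} (hz : z ≠ 0) (hw : w ≠ 0) : v O (z * w) = v O z + v O w := by
  obtain ⟨n, hn, k, hk⟩ := exists_spec O hz
  obtain ⟨m, hm, l, hl⟩ := exists_spec O hw
  rw [v_eq O hn hk, v_eq O hm hl, v_eq O (z := z * w) (n := n * m) (k := k * m + l * n) (Nat.mul_pos hn hm) ?_]
  · push_cast
    field_simp
  · have h := (hk.pow O m).mul O (hl.pow O n)
    convert h using 1
    rw [div_pow, div_pow, zpow_add₀ (pO_ne_zero O), zpow_mul, zpow_mul, zpow_natCast, zpow_natCast, ← pow_mul,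
      ← pow_mul, mul_comm m n, div_mul_div_comm, mul_pow]

theorem v_of_isU {z : Ω} (h : IsU O z) : v O z = 0 := by
  rw [v_eq O (n := 1) (k := 0) one_pos (by simpa using h)]
  simp

@[simp] theorem v_one : v O (1 : Ω) = 0 := v_of_isU O (IsU.one O)

@[simp] theorem v_pO : v O (pO O Ω) = 1 := by
  rw [v_eq O (n := 1) (k := 1) one_pos]
  · simp
  · rw [pow_one, zpow_one, div_self (pO_ne_zero O)]; exact IsU.one O

@[simp] theorem v_zero : v O (0 : Ω) = 0 := by
  unfold v
  rw [dif_neg]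
  rintro ⟨⟨n, k⟩, hn, h⟩
  exact h.1 (by rw [zero_pow (Nat.pos_iff_ne_zero.1 hn), zero_div])

theorem v_inv {z : Ω} (hz : z ≠ 0) : v O z⁻¹ = - v O z := by
  have := v_mul O hz (inv_ne_zero hz)
  rw [mul_inv_cancel₀ hz, v_one] at this
  linarith

theorem v_pow {z : Ω} (hz : z ≠ 0) : ∀ n : ℕ, v O (z ^ n) = n * v O z
  | 0 => by simp
  | n + 1 => by rw [pow_succ, v_mul O (pow_ne_zero _ hz) hz, v_pow hz n]; push_cast; ring

theorem v_div {z w : Ω} (hz : z ≠ 0) (hw : w ≠ 0) : v O (z / w) = v O z - v O w := by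
  rw [div_eq_mul_inv, v_mul O hz (inv_ne_zero hw), v_inv O hw]; ring

theorem v_prod {ι : Type*} (s : Finset ι) (f : ι → Ω) (hf : ∀ i ∈ s, f i ≠ 0) :
    v O (∏ i ∈ s, f i) = ∑ i ∈ s, v O (f i) := by
  classical
  induction s using Finset.induction with
  | empty => simp
  | insert a s ha ih =>
    rw [Finset.prod_insert ha, Finset.sum_insert ha, v_mul O (hf a (Finset.mem_insert_self a s))
      (Finset.prod_ne_zero_iff.2 fun i hi => hf i (Finset.mem_insert_of_mem hi)),
      ih fun i hi => hf i (Finset.mem_insert_of_mem hi)]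

theorem isIntegral_iff {z : Ω} (hz : z ≠ 0) : IsIntegral O z ↔ 0 ≤ v O z := by
  obtain ⟨n, hn, k, hk⟩ := exists_spec O hz
  have hp := zpow_ne_zero k (pO_ne_zero O (Ω := Ω))
  have e : z ^ n = z ^ n / pO O Ω ^ k * pO O Ω ^ k := (div_mul_cancel₀ _ hp).symm
  rw [v_eq O hn hk]
  refine ⟨fun h => ?_, fun h => IsIntegral.of_pow hn ?_⟩
  · have h1 : IsIntegral O (pO O Ω ^ k) := by
      have := (h.pow n).mul hk.2.2
      rwa [show z ^ n * (z ^ n / pO O Ω ^ k)⁻¹ = pO O Ω ^ k by field_simp] at this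
    exact div_nonneg (by exact_mod_cast nonneg_of_isIntegral_zpow O h1) (by positivity)
  · have hk0 : 0 ≤ k := by
      by_contra hlt
      have : (k : ℚ) / n < 0 := div_neg_of_neg_of_pos (by exact_mod_cast not_le.1 hlt) (by exact_mod_cast hn)
      linarith
    rw [e]
    obtain ⟨k', rfl⟩ := Int.eq_ofNat_of_zero_le hk0
    exact hk.2.1.mul (by rw [zpow_natCast]; exact (isIntegral_pO O).pow k')

theorem min_le_v_add {z w : Ω} (hz : z ≠ 0) (hw : w ≠ 0) (h : z + w ≠ 0) :
    min (v O z) (v O w) ≤ v O (z + w) := by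
  wlog hle : v O z ≤ v O w generalizing z w
  · rw [min_comm, add_comm]
    exact this hw hz (by rwa [add_comm]) (le_of_lt (not_le.1 hle))
  rw [min_eq_left hle]
  have h1 : IsIntegral O (w / z) := (isIntegral_iff O (div_ne_zero hw hz)).2 (by rw [v_div O hw hz]; linarith)
  have h2 : 1 + w / z ≠ 0 := by
    intro h0
    exact h (by rw [show z + w = z * (1 + w / z) by field_simp, h0, mul_zero])
  have h3 := (isIntegral_iff O h2).1 (isIntegral_one.add h1)
  rw [show z + w = z * (1 + w / z) by field_simp, v_mul O hz h2]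
  linarith

theorem v_neg (z : Ω) : v O (-z) = v O z := by
  rcases eq_or_ne z 0 with rfl | hz
  · rw [neg_zero]
  have h1 : IsU O (-1 : Ω) := ⟨neg_ne_zero.2 one_ne_zero, isIntegral_one.neg,
    by rw [inv_neg, inv_one]; exact isIntegral_one.neg⟩
  rw [neg_eq_neg_one_mul, v_mul O h1.1 hz, v_of_isU O h1, zero_add]

theorem v_map (σ : Ω →ₐ[O] Ω) (z : Ω) : v O (σ z) = v O z := by
  rcases eq_or_ne z 0 with rfl | hz
  · rw [map_zero]
  obtain ⟨n, hn, k, hk⟩ := exists_spec O hz
  rw [v_eq O hn hk, v_eq O hn]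
  have e : σ (z ^ n / pO O Ω ^ k) = σ z ^ n / pO O Ω ^ k := by
    rw [map_div₀, map_pow, map_zpow₀]
    congr 2
    exact σ.commutes _
  rw [← e]
  exact ⟨(map_ne_zero_iff _ σ.toRingHom.injective).2 hk.1, hk.2.1.map σ, by
    rw [← map_inv₀]; exact hk.2.2.map σ⟩

/-- Elements of valuation at least `s`. -/
def G (s : ℚ) : AddSubgroup Ω where
  carrier := {z | z = 0 ∨ s ≤ v O z}
  zero_mem' := Or.inl rfl
  add_mem' {a b} ha hb := by
    rcases eq_or_ne a 0 with rfl | ha0
    · simpa using hb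
    rcases eq_or_ne b 0 with rfl | hb0
    · simpa using ha
    by_cases h : a + b = 0
    · exact Or.inl h
    exact Or.inr ((le_min (ha.resolve_left ha0) (hb.resolve_left hb0)).trans (min_le_v_add O ha0 hb0 h))
  neg_mem' {a} ha := by
    rcases ha with rfl | ha
    · exact Or.inl neg_zero
    · exact Or.inr (by rwa [v_neg])

theorem mem_G {s : ℚ} {z : Ω} : z ∈ G O s ↔ z = 0 ∨ s ≤ v O z := Iff.rfl

theorem v_le_of_mem {s : ℚ} {z : Ω} (hz : z ≠ 0) (h : z ∈ G O s) : s ≤ v O z := h.resolve_left hz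

theorem mem_G_self (z : Ω) : z ∈ G O (v O z) := Or.inr le_rfl

theorem G_anti {s t : ℚ} (h : s ≤ t) {z : Ω} (hz : z ∈ G O t) : z ∈ G O s :=
  hz.imp id fun h' => h.trans h'

theorem mul_mem_G {s t : ℚ} {z w : Ω} (hz : z ∈ G O s) (hw : w ∈ G O t) : z * w ∈ G O (s + t) := by
  rcases eq_or_ne z 0 with rfl | hz0
  · rw [zero_mul]; exact zero_mem _
  rcases eq_or_ne w 0 with rfl | hw0
  · rw [mul_zero]; exact zero_mem _
  exact Or.inr (by rw [v_mul O hz0 hw0]; linarith [v_le_of_mem O hz0 hz, v_le_of_mem O hw0 hw])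

theorem pow_mem_G {s : ℚ} {z : Ω} (hz : z ∈ G O s) : ∀ n : ℕ, z ^ n ∈ G O (n * s)
  | 0 => Or.inr (by simp)
  | n + 1 => by
    rw [pow_succ, show ((n + 1 : ℕ) : ℚ) * s = n * s + s by push_cast; ring]
    exact mul_mem_G O (pow_mem_G hz n) hz

theorem mem_G_zero_iff {z : Ω} : z ∈ G O 0 ↔ IsIntegral O z := by
  rcases eq_or_ne z 0 with rfl | hz
  · exact ⟨fun _ => isIntegral_zero, fun _ => zero_mem _⟩
  rw [isIntegral_iff O hz]
  exact ⟨fun h => v_le_of_mem O hz h, Or.inr⟩

theorem mul_mem_G_left {s : ℚ} {c z : Ω} (hc : IsIntegral O c) (hz : z ∈ G O s) : c * z ∈ G O s := by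
  have := mul_mem_G O ((mem_G_zero_iff O).2 hc) hz
  rwa [zero_add] at this

theorem div_mem_G {s : ℚ} {z w : Ω} (hw : w ≠ 0) (hz : z ∈ G O s) : z / w ∈ G O (s - v O w) := by
  rcases eq_or_ne z 0 with rfl | hz0
  · rw [zero_div]; exact zero_mem _
  exact Or.inr (by rw [v_div O hz0 hw]; linarith [v_le_of_mem O hz0 hz])

theorem map_mem_G {s : ℚ} (σ : Ω →ₐ[O] Ω) {z : Ω} (hz : z ∈ G O s) : σ z ∈ G O s := by
  rcases hz with rfl | hz
  · rw [map_zero]; exact zero_mem _
  · exact Or.inr (by rwa [v_map])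

/-- The dominant term of a sum. -/
theorem v_add_eq_of_lt {z w : Ω} {c : ℚ} (hz : z ≠ 0) (hc : v O z < c) (hw : w ∈ G O c) :
    z + w ≠ 0 ∧ v O (z + w) = v O z := by
  rcases eq_or_ne w 0 with rfl | hw0
  · simpa using hz
  have hlt : v O z < v O w := hc.trans_le (v_le_of_mem O hw0 hw)
  have hne : z + w ≠ 0 := fun h => by
    rw [eq_neg_of_add_eq_zero_left h, v_neg] at hlt
    exact lt_irrefl _ hlt
  refine ⟨hne, le_antisymm ?_ (by simpa [min_eq_left hlt.le] using min_le_v_add O hz hw0 hne)⟩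
  have hw0' : -w ≠ 0 := neg_ne_zero.2 hw0
  have := min_le_v_add O hne hw0' (by simpa using hz)
  rw [add_neg_cancel_right, v_neg] at this
  rcases min_le_iff.1 this with h | h
  · exact h
  · linarith

/-- Terms of pairwise different valuations cannot cancel. -/
theorem mem_G_of_sum_mem {ι : Type*} (s : Finset ι) (f : ι → Ω) (t : ℚ)
    (hd : ∀ i ∈ s, ∀ j ∈ s, i ≠ j → f i ≠ 0 → f j ≠ 0 → v O (f i) ≠ v O (f j))
    (h : ∑ i ∈ s, f i ∈ G O t) : ∀ i ∈ s, f i ∈ G O t := by
  classical
  by_contra hbad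
  simp only [not_forall] at hbad
  obtain ⟨i₀, hi₀, hbad⟩ := hbad
  let s' := s.filter fun i => f i ∉ G O t
  obtain ⟨j, hj, hmin⟩ := Finset.exists_min_image s' (fun i => v O (f i)) ⟨i₀, Finset.mem_filter.2 ⟨hi₀, hbad⟩⟩
  obtain ⟨hjs, hjt⟩ := Finset.mem_filter.1 hj
  have hj0 : f j ≠ 0 := fun h0 => hjt (h0 ▸ zero_mem _)
  have hjv : v O (f j) < t := not_le.1 fun h' => hjt (Or.inr h')
  let rest := (s.erase j).filter fun i => f i ≠ 0
  have hc : ∃ c, v O (f j) < c ∧ ∑ i ∈ s.erase j, f i ∈ G O c := by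
    rcases rest.eq_empty_or_nonempty with he | he
    · refine ⟨t, hjv, ?_⟩
      rw [← Finset.sum_filter_ne_zero]
      simp [rest, show (s.erase j).filter (fun i => f i ≠ 0) = ∅ from he, zero_mem]
    obtain ⟨l, hl, hlmin⟩ := Finset.exists_min_image rest (fun i => v O (f i)) he
    obtain ⟨hls, hl0⟩ := Finset.mem_filter.1 hl
    refine ⟨v O (f l), ?_, sum_mem fun i hi => ?_⟩
    · have h1 : v O (f j) ≤ v O (f l) := by
        by_cases hlt : f l ∈ G O t
        · exact hjv.le.trans (v_le_of_mem O hl0 hlt)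
        · exact hmin l (Finset.mem_filter.2 ⟨Finset.mem_of_mem_erase hls, hlt⟩)
      exact lt_of_le_of_ne h1 (hd j hjs l (Finset.mem_of_mem_erase hls) (Finset.ne_of_mem_erase hls).symm hj0 hl0)
    · rcases eq_or_ne (f i) 0 with h0 | h0
      · exact h0 ▸ zero_mem _
      · exact Or.inr (hlmin i (Finset.mem_filter.2 ⟨hi, h0⟩))
  obtain ⟨c, hc1, hc2⟩ := hc
  rw [← Finset.add_sum_erase s f hjs] at h
  obtain ⟨h1, h2⟩ := v_add_eq_of_lt O hj0 hc1 hc2
  have := v_le_of_mem O h1 h
  linarith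

end Facts

end Groth.Agent.FontRam
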